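import Cfsg.Agent.Lib.RankTwoModel.MultiCase.Ctx

/-!
The uniqueness part of the case of at least two primes (after `Lib/BG/Close`).

* `MCtx.normalizer_le`, `MCtx.cent_comm_le_of`: normalizers of moved pieces of `F(H)` lie in `H`.
* `MCtx.close`: the centralizer of `e` lies in `H`.
-/

set_option autoImplicit false
set_option maxHeartbeats 800000
set_option linter.unusedSectionVars false
set_option linter.style.haveILetI false

namespace CfsgLib.RankTwoModel

open Cfsg CfsgLib.BG CfsgLib.GW CfsgLib.DihedralFusion CfsgLib.BenderMax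

universe u

variable {G : Type u} [Group G] [Finite G]

namespace MCtx

variable {t v : G} {H : Subgroup G} (C : MCtx t v H)

include C

theorem GG_H : GG H = FF H := GG_eq_FF C.bad.layer

theorem FF_ne_bot : FF H ≠ ⊥ := fun e => C.bad.moved (e ▸ bot_le)

theorem not_pgroup (hm : Multi H) {p : ℕ} (hp : p.Prime)
    (h : IsPGroup p (Cfsg.generalizedFittingSubgroup H)) : False := by
  obtain ⟨s, hs, hsp, hne⟩ := hm p
  refine hne (eq_bot_iff.2 fun x hx => ?_)
  obtain ⟨k, hk⟩ := OO_pow_order hs hx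
  obtain ⟨y, hy, rfl⟩ := hx
  have hyG := CfsgLib.fittingSubgroup_le_generalized (CfsgLib.pCore_le_fittingSubgroup hs hy)
  haveI := Fact.mk hp
  obtain ⟨j, hj⟩ := IsPGroup.iff_orderOf.1 h ⟨y, hyG⟩
  rw [Subgroup.orderOf_mk] at hj
  rw [Subgroup.coe_subtype, Subgroup.orderOf_coe, hj] at hk
  rw [Subgroup.mem_bot, Subgroup.coe_subtype, ← orderOf_eq_one_iff, Subgroup.orderOf_coe, hj]
  exact Nat.eq_one_of_dvd_coprimes (Nat.coprime_pow_primes j k hp hs (Ne.symm hsp)) dvd_rfl (dvd_of_eq hk)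

theorem normalizer_eq {A : Subgroup G} (hA : A ≤ H) (hne : A ≠ ⊥)
    (hn : ∀ a ∈ H, a ∈ Subgroup.normalizer (A : Set G)) : Subgroup.normalizer (A : Set G) = H := by
  haveI := C.hyp.simple
  by_contra hne'
  have htop := C.bad.coatom.2 _ (lt_of_le_of_ne hn (Ne.symm hne'))
  haveI : A.Normal := Subgroup.normalizer_eq_top_iff.1 htop
  rcases C.hyp.simple.eq_bot_or_eq_top_of_normal A inferInstance with e | e
  · exact hne e
  · exact C.bad.coatom.1 (top_le_iff.1 (e ▸ hA))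

theorem normalizer_OO {r : ℕ} (hr : OO r H ≠ ⊥) : Subgroup.normalizer (OO r H : Set G) = H :=
  C.normalizer_eq OO_le hr fun _ ha => mem_normalizer_OO ha

theorem cent_OO_le {r : ℕ} (hr : OO r H ≠ ⊥) {x : G} (hx : ∀ y ∈ OO r H, x * y = y * x) : x ∈ H := by
  rw [← C.normalizer_OO hr]
  exact Subgroup.centralizer_le_normalizer _ (Subgroup.mem_centralizer_iff.2 fun y hy => (hx y hy).symm)

theorem kill_aux {N : Subgroup G} (hN : Bad t N) {r : ℕ} (hr : r.Prime) (hrH : OO r H = ⊥)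
    (hinv : ∀ x ∈ OO r N, t * x * t⁻¹ = x⁻¹) : ∀ x ∈ OO r N, v * x = x * v → x = 1 := by
  intro x hx hvx
  obtain ⟨k, hk⟩ := OO_pow_order hr hx
  have hxv := C.mem_Hc C.invol hvx.symm
  refine C.eq_one_of_centralizes C.invol hr hrH hxv hk fun s hs => ?_
  by_cases hsr : s = r
  · intro y hy
    rw [hsr, C.OO_Hc_bot hrH C.invol, Subgroup.mem_bot] at hy
    rw [hy, mul_one, one_mul]
  refine C.centralizes_OO C.invol C.comm hs hxv (hinv x hx) (odd_orderOf hN.odd (OO_le_FF hr N hx))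
    (hk ▸ Nat.Coprime.pow_left k ((Nat.coprime_primes hr hs).2 (Ne.symm hsr))) fun y hy hty => ?_
  exact comm_of_OO hr hs (Ne.symm hsr) hx hy hxv (hN.cent (mem_cent.2 hty.symm))

theorem kill {N : Subgroup G} (hN : Bad t N) {r : ℕ} (hr : r.Prime) (hrH : OO r H = ⊥)
    (hRH : OO r N ⊓ H = ⊥) : OO r N = ⊥ := by
  have hodd : Odd (Nat.card (OO r N)) := hN.odd.of_dvd_nat (Subgroup.card_dvd_of_le (OO_le_FF hr N))
  have hinv := all_inverted hodd C.bad.invol (mem_normalizer_OO hN.mem) fun x hx htx => by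
    have : x ∈ OO r N ⊓ H := ⟨hx, C.cent_le htx.symm⟩
    rwa [hRH, Subgroup.mem_bot] at this
  have hvN : v ∈ N := hN.cent (mem_cent.2 C.comm.symm)
  have hv := all_inverted hodd C.invol (mem_normalizer_OO hvN) (C.kill_aux hN hr hrH hinv)
  refine eq_bot_iff.2 fun x hx => ?_
  refine Subgroup.mem_bot.2 (C.symm.kill_aux hN hr hrH hinv x hx (BG.comm_of_conj_eq ?_))
  rw [show t * v * x * (t * v)⁻¹ = t * (v * x * v⁻¹) * t⁻¹ by group, hv x hx, hinv _ (inv_mem hx), inv_inv]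

/-- The normalizer of a moved piece of `F(H)` lies in `H`. -/
theorem normalizer_le (hm : Multi H) {X : Subgroup G} (hX : X ≠ ⊥) (hXF : X ≤ FF H)
    (hCX : Subgroup.centralizer ({t} : Set G) ≤ Subgroup.normalizer (X : Set G))
    (hmv : ∃ f ∈ FF H, f ∈ Subgroup.normalizer (X : Set G) ∧ t * f ≠ f * t) :
    Subgroup.normalizer (X : Set G) ≤ H := by
  haveI := C.hyp.simple
  have hna := C.hyp.noncomm
  have hodd : Odd (Nat.card X) := C.bad.odd.of_dvd_nat (Subgroup.card_dvd_of_le hXF)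
  obtain ⟨N, hN, hle⟩ := (eq_top_or_exists_le_coatom _).resolve_left (C.hyp.normalizer_ne_top hX hodd)
  obtain ⟨f, hf, hfX, hfmv⟩ := hmv
  have hB : Bad t N := bad_of_moved' C.hyp C.bad.invol C.iso hN (hCX.trans hle)
    (R := FF H ⊓ Subgroup.normalizer (X : Set G))
    (C.bad.odd.of_dvd_nat (Subgroup.card_dvd_of_le inf_le_left))
    (fun c hc => Subgroup.mem_normalizer_fintype fun y hy =>
      ⟨conj_FF (C.bad.cent hc) hy.1, (Subgroup.normalizer _).mul_mem ((Subgroup.normalizer _).mul_mem (hCX hc) hy.2)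
        ((Subgroup.normalizer _).inv_mem (hCX hc))⟩)
    (inf_le_right.trans hle) fun h => hfmv (mem_cent.1 (h ⟨hf, hfX⟩)).symm
  have hHN : Cfsg.leadsTo H N := ⟨X, hX, hXF, fun y hy => hle hy.2⟩
  obtain ⟨h1, -, h3⟩ := leadsTo_facts hna C.bad.coatom hHN
  have hFN : FF N ≤ H := by
    refine FF_le_of_primes fun q hq hqN => ?_
    by_cases hqH : q ∣ Nat.card (Cfsg.fittingSubgroup H)
    · obtain ⟨r, hr, hrq, hne⟩ := hm q
      exact h3 q r hq hr hrq hqH (OO_ne_bot_dvd hr hne)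
    · rw [C.kill hB hq (OO_eq_bot_of_not_dvd hq hqH) (h1 q hq hqH)]
      exact bot_le
  have hNH : Cfsg.leadsTo N H := ⟨FF N, fun e => hB.moved (e ▸ bot_le), le_rfl, fun y hy =>
    hFN ((GG_eq_FF hB.layer).le hy.1)⟩
  rcases uniqueness_symm hna H N C.bad.coatom hN hHN hNH with e | ⟨p, hp, h, -⟩
  · exact e ▸ hle
  · exact (C.not_pgroup hm hp h).elim

/-- An element centralizing `[O_p(H), t]` lies in `H`. -/
theorem cent_comm_le_of {p : ℕ} (hp : Moved t H p)
    (hN : ∀ X : Subgroup G, X ≠ ⊥ → X ≤ FF H → Subgroup.centralizer ({t} : Set G) ≤ Subgroup.normalizer (X : Set G) →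
      OO p H ≤ Subgroup.normalizer (X : Set G) → Subgroup.normalizer (X : Set G) ≤ H) {x : G}
    (hx : ∀ f ∈ OO p H, x * (f⁻¹ * (t * f * t⁻¹)) = f⁻¹ * (t * f * t⁻¹) * x) : x ∈ H := by
  set S : Set G := {c | ∃ f ∈ OO p H, c = f⁻¹ * (t * f * t⁻¹)} with hS
  set X := Subgroup.closure S with hX
  have hXO : X ≤ OO p H := (Subgroup.closure_le _).2 (by
    rintro c ⟨f, hf, rfl⟩
    exact mul_mem (inv_mem hf) (conj_OO C.bad.mem hf))
  obtain ⟨hpp, f₀, hf₀, hmv⟩ := hp
  have hne : X ≠ ⊥ := fun e => hmv (by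
    have h1 : f₀⁻¹ * (t * f₀ * t⁻¹) ∈ X := Subgroup.subset_closure ⟨f₀, hf₀, rfl⟩
    rw [e, Subgroup.mem_bot, inv_mul_eq_one] at h1
    exact BG.comm_of_conj_eq h1.symm)
  have hC : Subgroup.centralizer ({t} : Set G) ≤ Subgroup.normalizer (X : Set G) := fun c hc => by
    refine normalizer_closure_of ?_
    rintro _ ⟨f, hf, rfl⟩
    refine Subgroup.subset_closure ⟨c * f * c⁻¹, conj_OO (C.bad.cent hc) hf, ?_⟩
    have hct' : c * t * c⁻¹ = t := conj_eq_self (mem_cent.1 hc)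
    calc c * (f⁻¹ * (t * f * t⁻¹)) * c⁻¹ = (c * f * c⁻¹)⁻¹ * ((c * t * c⁻¹) * (c * f * c⁻¹) * (c * t * c⁻¹)⁻¹) := by
          group
      _ = _ := by rw [hct']
  refine hN X hne (hXO.trans (OO_le_FF hpp H)) hC (fun f₀ hf₀ => ?_) (Subgroup.centralizer_le_normalizer _ ?_)
  · refine normalizer_closure_of ?_
    rintro _ ⟨f, hf, rfl⟩
    have h1 : (f * f₀⁻¹)⁻¹ * (t * (f * f₀⁻¹) * t⁻¹) ∈ X :=
      Subgroup.subset_closure ⟨_, mul_mem hf (inv_mem hf₀), rfl⟩
    have h2 : f₀⁻¹⁻¹ * (t * f₀⁻¹ * t⁻¹) ∈ X := Subgroup.subset_closure ⟨_, inv_mem hf₀, rfl⟩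
    have := mul_mem h1 (inv_mem h2)
    rwa [show (f * f₀⁻¹)⁻¹ * (t * (f * f₀⁻¹) * t⁻¹) * (f₀⁻¹⁻¹ * (t * f₀⁻¹ * t⁻¹))⁻¹ =
      f₀ * (f⁻¹ * (t * f * t⁻¹)) * f₀⁻¹ by group] at this
  · rw [hX, Subgroup.centralizer_closure, Subgroup.mem_centralizer_iff]
    rintro _ ⟨f, hf, rfl⟩
    exact (hx f hf).symm

theorem cent_comm_le (hm : Multi H) {p : ℕ} (hp : Moved t H p) {x : G}
    (hx : ∀ f ∈ OO p H, x * (f⁻¹ * (t * f * t⁻¹)) = f⁻¹ * (t * f * t⁻¹) * x) : x ∈ H := by
  obtain ⟨hpp, f, hf, hmv⟩ := id hp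
  exact C.cent_comm_le_of hp (fun X hX hXF hC hFX => C.normalizer_le hm hX hXF hC
    ⟨f, OO_le_FF hpp H hf, hFX hf, hmv⟩) hx

theorem mid_leads {p : ℕ} (hp : p.Prime) {e : G} (he : e ∈ OO p H) (hep : orderOf e = p) {Y : Subgroup G}
    (hY : Mid t v e Y) : Cfsg.leadsTo H Y := by
  haveI := Fact.mk hp
  have heF := OO_le_FF hp H he
  refine ⟨Subgroup.zpowers e, fun h => hp.ne_one ?_, Subgroup.zpowers_le.2 heF, fun y hy => hY.cent y ?_⟩
  · rw [← hep, ← Nat.card_zpowers, h, Subgroup.card_bot]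
  set K := FF H ⊓ Subgroup.normalizer (Subgroup.zpowers e : Set G) with hK
  haveI : Group.IsNilpotent (FF H) := isNilpotent_FF
  haveI : Group.IsNilpotent K := Group.nilpotent_of_mulEquiv
    (G := K.subgroupOf (FF H)) (Subgroup.subgroupOfEquivOfLe inf_le_left)
    (_h := inferInstance)
  have hPK : Subgroup.zpowers e ≤ K := le_inf (Subgroup.zpowers_le.2 heF) Subgroup.le_normalizer
  haveI : ((Subgroup.zpowers e).subgroupOf K).Normal :=
    (Subgroup.normal_subgroupOf_iff_le_normalizer hPK).2 inf_le_right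
  have hne : (Subgroup.zpowers e).subgroupOf K ≠ ⊥ := fun h => hp.ne_one (by
    have h1 := Nat.card_congr (Subgroup.subgroupOfEquivOfLe hPK).toEquiv
    rw [h, Subgroup.card_bot, Nat.card_zpowers, hep] at h1
    exact h1.symm)
  obtain ⟨z, hz, hz1⟩ :=
    (Subgroup.bot_or_exists_ne_one _).resolve_left (CfsgLib.inf_center_ne_bot_of_nilpotent hne)
  have hze : (z : G) ∈ Subgroup.zpowers e := hz.1
  have hyK : y ∈ K := ⟨C.GG_H.le hy.1, hy.2⟩
  have hcy : Commute y (z : G) := congrArg Subtype.val (Subgroup.mem_center_iff.1 hz.2 ⟨y, hyK⟩)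
  obtain ⟨i, hi⟩ := Subgroup.mem_zpowers_iff.1
    (mem_zpowers_of_prime_card (G := Subgroup.zpowers e) (p := p) (by rw [Nat.card_zpowers, hep])
      (g := ⟨z, hze⟩) (g' := ⟨e, Subgroup.mem_zpowers e⟩) fun h => hz1 (Subtype.ext (congrArg Subtype.val h :)))
  have hi' : (z : G) ^ i = e := congrArg Subtype.val hi
  exact hi' ▸ (hcy.zpow_right i).eq

theorem mid_disjoint {p : ℕ} (hp : p.Prime) {e : G} (he : e ∈ OO p H) (hep : orderOf e = p) {Y : Subgroup G}
    (hY : Mid t v e Y) {r : ℕ} (hr : r.Prime) (hrH : OO r H = ⊥) : OO r Y ⊓ H = ⊥ := by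
  haveI := C.hyp.simple
  exact (leadsTo_facts C.hyp.noncomm C.bad.coatom (C.mid_leads hp he hep hY)).1 r hr (not_dvd_of_OO_eq_bot hr hrH)

theorem mid_FF_le (hm : Multi H) {p : ℕ} (hp : p.Prime) {e : G} (he : e ∈ OO p H) (hep : orderOf e = p)
    (hext : BG.Ctx.Extra t v H e) {Y : Subgroup G} (hY : Mid t v e Y) {r : ℕ} (hr : r.Prime) : OO r Y ≤ H := by
  haveI := C.hyp.simple
  by_cases hd : r ∣ Nat.card (Cfsg.fittingSubgroup H)
  · obtain ⟨s, hs, hsr, hne⟩ := hm r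
    exact (leadsTo_facts C.hyp.noncomm C.bad.coatom (C.mid_leads hp he hep hY)).2.2 r s hr hs hsr hd
      (OO_ne_bot_dvd hs hne)
  · rw [hext Y hY r hr (OO_eq_bot_of_not_dvd hr hd)]
    exact bot_le

/-- A component of the normalizer contains `t` with `w`. -/
theorem close_side {Y' L A : Subgroup G} (hY' : Y' ≠ ⊤) (htY : t ∈ Y') (hL : Comp Y' L) {q : ℕ} (hq : q.Prime)
    (hq2 : q ≠ 2) (hA : IsPGroup q A) (hAcomm : ∀ a ∈ L, ∀ b ∈ A, a * b = b * a)
    (hAnorm : Subgroup.centralizer (A : Set G) ≤ Y')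
    (hside : Moved t H q ∨ ∃ d ∈ A, d ≠ 1 ∧ ∀ x : G, x * d = d * x → x ∈ H) (hv : v ∈ L) : t ∈ L := by
  haveI := Fact.mk hq
  rcases hside with hqm | ⟨d, hdA, -, hd⟩
  · obtain ⟨f, hf, hfm⟩ := C.moved_Hc hqm C.invol
    have hAH : A ≤ Hc t H v := fun b hb => C.mem_Hc C.invol (hAcomm v hv b hb).symm
    obtain ⟨y, hy, hyA, hym⟩ : ∃ y ∈ OO q (Hc t H v), (∀ b ∈ A, b * y = y * b) ∧ v * y ≠ y * v := by
      by_contra hno
      push Not at hno
      exact hfm (centralizes_of_fixed hA (OO_isPGroup q (Hc t H v)) (fun b hb => mem_normalizer_OO (hAH hb))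
        (mem_normalizer_OO (C.bad_Hc C.invol).mem)
        (by rw [C.invol]; exact (Nat.coprime_primes Nat.prime_two hq).2 (Ne.symm hq2))
        (fun b hb => (hAcomm v hv b hb).symm) hno f hf)
    exact C.rad_invol_Hc hY' hL
      (C.rad_Hc hL hv C.invol hq hy (hAnorm (Subgroup.mem_centralizer_iff.2 fun b hb => hyA b hb)) hym)
      C.bad.invol htY C.comm
  · haveI := hL.perfect
    exact absurd hv (C.not_mem_perfect (L := L) fun a ha => hd a (hAcomm a ha d hdA))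

/-- **The centralizer of `e` lies in `H`.** -/
theorem close (hm : Multi H) {p : ℕ} (hp : p.Prime) {e : G} (he : e ∈ OO p H) (hep : orderOf e = p)
    (hext : BG.Ctx.Extra t v H e) (hbase : ∃ Y, Mid t v e Y)
    (hmv : ∃ r : ℕ, r.Prime ∧ ∃ f ∈ OO r H, f * e = e * f ∧ t * f ≠ f * t)
    (hte : t * e * t⁻¹ = e⁻¹ ∨ t * e = e * t ∧ ∀ x ∈ OO p H, e * x = x * e)
    {q : ℕ} (hq : q.Prime) (hqp : q ≠ p) (hqH : OO q H ≠ ⊥)
    (hside : Moved t H q ∨ ((∀ x ∈ OO q H, t * x = x * t) ∧ ∀ d ∈ OO q H, orderOf d = q →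
      (∀ x ∈ OO q H, d * x = x * d) → t * d = d * t → v * d = d * v → ∀ x : G, x * d = d * x → x ∈ H))
    {x₀ : G} (hx₀ : x₀ * e = e * x₀) : x₀ ∈ H := by
  haveI := C.hyp.simple
  haveI := Fact.mk hp
  haveI := Fact.mk hq
  obtain ⟨Y₀, hY₀⟩ := hbase
  obtain ⟨Y, -, hYmax⟩ := Finite.exists_le_maximal (p := fun Y => Mid t v e Y) hY₀
  have hY := hYmax.prop
  have hFFY : ∀ r, r.Prime → OO r Y ≤ H := fun r hr => C.mid_FF_le hm hp he hep hext hY hr
  have hqY : ∀ {r : ℕ}, r.Prime → r ≠ p → OO r H ≤ Y := fun hr hrp y hy => hY.cent y (OO_comm hr hp hrp hy he)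
  -- `O_q(H)` meets `O_q(Y)`
  set D := OO q H ⊓ OO q Y with hD
  have hDne : D ≠ ⊥ := by
    intro hD0
    have hcen : ∀ x ∈ OO q H, ∀ s, s.Prime → ∀ y ∈ OO s Y, x * y = y * x := by
      intro x hx s hs y hy
      by_cases hsq : s = q
      · subst hsq
        have h1 : x * y * x⁻¹ * y⁻¹ ∈ D := by
          refine ⟨?_, (OO s Y).mul_mem (conj_OO (hqY hq hqp hx) hy) ((OO s Y).inv_mem hy)⟩
          rw [show x * y * x⁻¹ * y⁻¹ = x * (y * x⁻¹ * y⁻¹) by group]
          exact mul_mem hx (conj_OO (hFFY s hs hy) (inv_mem hx))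
        rw [hD0, Subgroup.mem_bot, mul_inv_eq_one, mul_inv_eq_iff_eq_mul] at h1
        exact h1
      · exact comm_of_OO hq hs (Ne.symm hsq) hx hy (hqY hq hqp hx) (hFFY s hs hy)
    refine hqH (eq_bot_iff.2 fun x hx => ?_)
    obtain ⟨k, hk⟩ := OO_pow_order hq hx
    have hxY := mem_OO_of_FF hq (self_cent hY.layer (hqY hq hqp hx) (comm_FF_of_OO (hcen x hx))) hk
    exact hD0 ▸ (⟨hx, hxY⟩ : x ∈ D)
  have hq2 : q ≠ 2 := C.ne_two hqH
  have hA1 : OO q Y ≠ ⊥ := fun h => hDne (eq_bot_iff.2 fun y hy => h ▸ hy.2)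
  set Y' := Subgroup.normalizer (OO q Y : Set G) with hY'def
  have hYY' : Y ≤ Y' := fun y hy => mem_normalizer_OO hy
  have hY'top : Y' ≠ ⊤ := C.hyp.normalizer_ne_top hA1 (OO_odd hq hq2 Y)
  have hAY' : OO q Y ≤ OO q Y' := isPGroup_normal_le_OO (OO_isPGroup q Y) Subgroup.le_normalizer
    fun y hy x hx => mem_normalizer_of_mem hy hx
  have hAcomm : ∀ a ∈ EE Y', ∀ b ∈ OO q Y, a * b = b * a := fun a ha b hb =>
    comm_EE_FF ha (OO_le_FF hq Y' (hAY' hb))
  have hO2 : OO 2 Y' = ⊥ := by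
    by_contra hO
    obtain ⟨w, hw, hwY, hwo⟩ : ∃ w ∈ OO 2 Y', w ∈ Y ∧ orderOf w = 2 := by
      rcases C.meets_two (hYY' hY.left) (hYY' hY.right) hO with h | h | h
      · exact ⟨t, h, hY.left, C.bad.invol⟩
      · exact ⟨v, h, hY.right, C.invol⟩
      · exact ⟨t * v, h, mul_mem hY.left hY.right, C.tv_invol⟩
    have := isPGroup_normal_le_OO (R := OO 2 Y' ⊓ Y) ((OO_isPGroup 2 Y').to_le inf_le_left) inf_le_right
      (fun y hy z hz => ⟨conj_OO (hYY' hy) hz.1, Y.mul_mem (Y.mul_mem hy hz.2) (Y.inv_mem hy)⟩) ⟨hw, hwY⟩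
    rw [hY.two, Subgroup.mem_bot] at this
    exact ne_one_of_invol hwo this
  have hY'mid : Mid t v e Y' := by
    refine ⟨hY'top, hYY' hY.left, hYY' hY.right, fun x hx => hYY' (hY.cent x hx), ?_, hO2⟩
    by_contra hE
    obtain ⟨L, hL⟩ := C.exists_comp' hY'top hE hO2
    have hLA : ∀ a ∈ L, ∀ b ∈ OO q Y, a * b = b * a := fun a ha => hAcomm a (hL.layer.symm ▸ ha)
    have hcent : Subgroup.centralizer (OO q Y : Set G) ≤ Y' := Subgroup.centralizer_le_normalizer _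
    -- the piece used by `close_side`
    have hside' : ∀ w : G, (∀ d : G, t * d = d * t → w * d = d * w → v * d = d * v) → w ∈ L →
        Moved t H q ∨ ∃ d ∈ OO q Y, d ≠ 1 ∧ ∀ x : G, x * d = d * x → x ∈ H := by
      intro w hwv hw
      refine hside.imp_right fun ⟨hfix, hd⟩ => ?_
      obtain ⟨d, hdD, hdo, hdc⟩ := CfsgLib.Comp.exists_central_in_normal (p := q) (OO_isPGroup q H)
        (inf_le_left : D ≤ OO q H) (fun y hy => Subgroup.mem_normalizer_fintype fun z hz =>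
          ⟨(OO q H).mul_mem ((OO q H).mul_mem hy hz.1) ((OO q H).inv_mem hy), conj_OO (hqY hq hqp hy) hz.2⟩) hDne
      exact ⟨d, hdD.2, fun h => hq.ne_one (by rw [← hdo, h, orderOf_one]),
        hd d hdD.1 hdo (fun x hx => (hdc x hx).symm) (hfix d hdD.1)
          (hwv d (hfix d hdD.1) (hLA w hw d hdD.2))⟩
    have htY' := hYY' hY.left
    have htL : t ∈ L := by
      rcases C.comp_meets hL htY' (hYY' hY.right) with h | h | h
      · exact h
      · exact C.close_side hY'top htY' hL hq hq2 (OO_isPGroup q Y) hLA hcent (hside' v (fun d _ h => h) h) h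
      · refine C.symm.close_side hY'top htY' hL hq hq2 (OO_isPGroup q Y) hLA hcent (hside' _ (fun d h1 h2 => ?_) h) h
        have h3 := ((show Commute t d from h1).mul_left (show Commute (t * v) d from h2)).eq
        rwa [C.tv_tv] at h3
    have heY' : e ∈ Y' := hYY' (hY.cent e rfl)
    obtain ⟨r, hr, f, hf, hfe, hfm⟩ := hmv
    have hfY' : f ∈ Y' := hYY' (hY.cent f hfe)
    rcases hte with hinv | ⟨hfix, hec⟩
    · -- `e` is moved: no other prime is
      have hem : t * e ≠ e * t := fun h => by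
        rw [conj_eq_self h] at hinv
        have h1 := eq_one_of_sq C.bad.odd (OO_le_FF hp H he) (eq_inv_iff_mul_eq_one.1 hinv)
        rw [h1, orderOf_one] at hep
        exact hp.ne_one hep.symm
      by_cases hqm : ∃ g ∈ OO q H, t * g ≠ g * t
      · obtain ⟨g, hg, hgm⟩ := hqm
        exact hqp (C.rad_prime_H hY'top hL htL hq hp hg (hYY' (hqY hq hqp hg)) hgm he heY' hem)
      push Not at hqm
      refine C.comp_not_le hL (fun a ha => C.cent_OO_le hqH fun y hy => ?_) htL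
      exact (C.rad_cent_H hY'top hL htL hp he heY' hem (hYY' (hqY hq hqp hy)) (hqm y hy).symm
        (fun z hz => OO_comm hq hp hqp hy hz) a ha).symm
    · -- `e` centralizes the component
      have hec' : ∀ z ∈ OO r H, e * z = z * e := fun z hz => by
        by_cases hrp : r = p
        · subst hrp; exact hec z hz
        · exact OO_comm hp hr (Ne.symm hrp) he hz
      exact hL.not_le_of_layer hY.layer (fun a ha => hY.cent a
        (C.rad_cent_H hY'top hL htL hr hf hfY' hfm heY' hfix.symm hec' a ha).symm) hYY'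
  have hYeq : Y' = Y := le_antisymm (hYmax.2 hY'mid hYY') hYY'
  -- the two groups `W_p` agree
  have heH : e ∈ H := OO_le he
  have heY : e ∈ Y := hY.cent e rfl
  have h1 : WW p H ≤ WW p Y := by
    refine (Subgroup.closure_le _).2 ?_
    rintro x ⟨hxH, ⟨k, hk⟩, hxc⟩
    have hcomm : ∀ r, r.Prime → r ≠ p → ∀ u ∈ OO r Y, x * u = u * x := by
      intro r hr hrp u hu
      have huH := hFFY r hr hu
      refine comm_of_cross C.bad.layer hp hr hrp hxH hk hxc hu huH fun s hs hsr y hy => ?_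
      by_cases hsp : s = p
      · subst hsp
        have hue : Commute u e := comm_of_OO hr hs hrp hu he huH heY
        refine centralizes_of_fixed (A := Subgroup.zpowers e) ((IsPGroup.of_card (n := 1) (by
            rw [Nat.card_zpowers, hep, pow_one]) : IsPGroup s _)) (OO_isPGroup s H)
          (Subgroup.zpowers_le.2 (mem_normalizer_OO heH)) (mem_normalizer_OO huH) ?_ ?_ ?_ y hy
        · obtain ⟨j, hj⟩ := OO_pow_order hr hu
          exact hj ▸ Nat.Coprime.pow_left j ((Nat.coprime_primes hr hs).2 hrp)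
        · intro a ha
          obtain ⟨i, rfl⟩ := Subgroup.mem_zpowers_iff.1 ha
          exact (hue.symm.zpow_left i).eq
        · intro z hz hze
          exact comm_of_OO hr hs hrp hu hz huH (hY.cent z (hze e (Subgroup.mem_zpowers e)).symm)
      · exact comm_of_OO hr hs (Ne.symm hsr) hu hy huH (hqY hs hsp hy)
    refine Subgroup.subset_closure ⟨?_, ⟨k, hk⟩, hcomm⟩
    rw [← hYeq]
    exact Subgroup.centralizer_le_normalizer _ (Subgroup.mem_centralizer_iff.2 fun u hu => (hcomm q hq hqp u hu).symm)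
  have h2 : WW p Y ≤ WW p H := by
    refine (Subgroup.closure_le _).2 ?_
    rintro x ⟨hxY, ⟨k, hk⟩, hxc⟩
    have hcomm : ∀ r, r.Prime → r ≠ p → ∀ u ∈ OO r H, x * u = u * x := fun r hr hrp u hu =>
      comm_of_cross hY.layer hp hr hrp hxY hk hxc hu (hqY hr hrp hu) fun s hs hsr y hy =>
        comm_of_OO hr hs (Ne.symm hsr) hu hy (hqY hr hrp hu) (hFFY s hs hy)
    exact Subgroup.subset_closure ⟨C.cent_OO_le hqH (hcomm q hq hqp), ⟨k, hk⟩, hcomm⟩
  have heW : e ∈ WW p H := Subgroup.subset_closure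
    ⟨heH, ⟨1, by rw [hep, pow_one]⟩, fun r hr hrp y hy => (OO_comm hr hp hrp hy he).symm⟩
  have hWne : WW p H ≠ ⊥ := fun h => by
    rw [h, Subgroup.mem_bot] at heW
    rw [heW, orderOf_one] at hep
    exact hp.ne_one hep.symm
  have hN := C.normalizer_eq (A := WW p H) ((Subgroup.closure_le _).2 fun x hx => hx.1) hWne fun a ha => WW_conj ha
  have hx' : x₀ ∈ Subgroup.normalizer (WW p H : Set G) := by
    rw [le_antisymm h1 h2]
    exact WW_conj (hY.cent x₀ hx₀)
  exact hN.le hx'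

end MCtx

end CfsgLib.RankTwoModel
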