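import Cfsg.Agent.Lib.RankTwoModel.MultiCase.Setup

/-!
The configuration of the case of two primes (after `Lib/BG/Ctx`).

* `MCtx t v H`: `H` is `Bad`, `t` is isolated.
* `MCtx.not_mem_perfect`, `MCtx.comp_not_le`, `MCtx.rad_prime_H`, `MCtx.rad_cent_H`: the tools at components.
-/

set_option autoImplicit false
set_option linter.unusedSectionVars false
set_option linter.style.haveILetI false

namespace CfsgLib.RankTwoModel

open Cfsg CfsgLib.BG CfsgLib.GW CfsgLib.DihedralFusion CfsgLib.BenderMax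

universe u

/-- An involution of `SL₂` in odd characteristic is unique. -/
theorem sl_invol_unique {F : Type*} [Field F] [Fintype F] (hodd : Odd (Fintype.card F))
    {a b : Matrix.SpecialLinearGroup (Fin 2) F} (ha : a * a = 1) (hb : b * b = 1) (ha1 : a ≠ 1) (hb1 : b ≠ 1) :
    a = b := by
  have h2 : (2 : F) ≠ 0 := Ring.two_ne_zero fun h =>
    Nat.not_even_iff_odd.mpr hodd ((FiniteField.even_card_iff_char_two).mp h |> Nat.even_iff.mpr)
  have key : ∀ {c : Matrix.SpecialLinearGroup (Fin 2) F}, c * c = 1 → c ≠ 1 →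
      c.1 = !![-1, 0; 0, -1] := by
    intro c hc hc1
    have hd := c.2
    rw [Matrix.det_fin_two] at hd
    have q : ∀ i j, (c.1 * c.1) i j = (1 : Matrix (Fin 2) (Fin 2) F) i j := fun i j => by
      rw [← Matrix.SpecialLinearGroup.coe_mul, hc, Matrix.SpecialLinearGroup.coe_one]
    simp only [Matrix.mul_apply, Fin.sum_univ_two] at q
    have q00 := q 0 0; have q01 := q 0 1; have q10 := q 1 0; have q11 := q 1 1
    simp at q00 q01 q10 q11
    have hs : c.1 0 0 + c.1 1 1 ≠ 0 := fun e => h2 (by linear_combination -q00 - hd + c.1 0 0 * e)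
    have b0 : c.1 0 1 = 0 := (mul_eq_zero.mp (show (c.1 0 0 + c.1 1 1) * c.1 0 1 = 0 by
      linear_combination q01)).resolve_left hs
    have c0 : c.1 1 0 = 0 := (mul_eq_zero.mp (show (c.1 0 0 + c.1 1 1) * c.1 1 0 = 0 by
      linear_combination q10)).resolve_left hs
    rw [b0, zero_mul, add_zero] at q00
    rw [b0, zero_mul, sub_zero] at hd
    rcases mul_self_eq_one_iff.mp q00 with e | e
    · exfalso
      refine hc1 (Subtype.ext ?_)
      rw [e, one_mul] at hd
      ext i j; fin_cases i <;> fin_cases j <;> simp [e, hd, b0, c0]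
    · rw [e, neg_one_mul, neg_eq_iff_eq_neg] at hd
      ext i j; fin_cases i <;> fin_cases j <;> simp [e, hd, b0, c0]
  exact Subtype.ext ((key ha ha1).trans (key hb hb1).symm)

variable {G : Type u} [Group G] [Finite G]

/-- A configuration. -/
structure MCtx (t v : G) (H : Subgroup G) : Prop where
  hyp : Hyp G
  iso : Iso t
  bad : Bad t H
  invol : orderOf v = 2
  comm : t * v = v * t
  ne : v ≠ t

namespace MCtx

variable {t v : G} {H : Subgroup G} (C : MCtx t v H)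

include C

theorem t_invol : orderOf t = 2 := C.bad.invol

theorem tv_invol : orderOf (t * v) = 2 := orderOf_mul_invol C.bad.invol C.invol C.comm C.ne

theorem comm_tv : t * (t * v) = t * v * t := by rw [mul_assoc, ← C.comm]

theorem tv_ne : t * v ≠ t := fun e => ne_one_of_invol C.invol (mul_eq_left.1 e)

theorem tv_tv : t * (t * v) = v := by rw [← mul_assoc, invol_mul_self C.bad.invol, one_mul]

theorem symm : MCtx t (t * v) H :=
  ⟨C.hyp, C.iso, C.bad, C.tv_invol, C.comm_tv, C.tv_ne⟩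

theorem not_fused : ∀ a ∈ H, a * t * a⁻¹ ≠ v := fun a ha e =>
  C.ne (e ▸ C.iso H C.bad.coatom.1 C.bad.cent a ha (by rw [e]; exact C.comm.symm))

theorem swap : ∃ s ∈ Subgroup.centralizer ({t} : Set G), s * v * s⁻¹ = t * v :=
  C.hyp.swap C.bad.invol C.invol C.comm C.ne

theorem cent_le {x : G} (hx : x * t = t * x) : x ∈ H := C.bad.cent (mem_cent.2 hx)

theorem v_mem : v ∈ H := C.cent_le C.comm.symm

theorem Hc_self : Hc t H t = H := by
  rw [Hc_eq C.bad.cent (g := 1) (by group), cj_one]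

theorem exists_Hc {w : G} (hw : orderOf w = 2) : ∃ g : G, g * t * g⁻¹ = w ∧ Hc t H w = cj g H := by
  obtain ⟨g, hg⟩ := C.hyp.exists_conj t w C.bad.invol hw
  exact ⟨g, hg, Hc_eq C.bad.cent hg⟩

theorem bad_Hc {w : G} (hw : orderOf w = 2) : Bad w (Hc t H w) := by
  obtain ⟨g, hg, e⟩ := C.exists_Hc hw
  rw [e, ← hg]
  exact C.bad.cj g

theorem mem_Hc {w : G} (hw : orderOf w = 2) {x : G} (hx : x * w = w * x) : x ∈ Hc t H w :=
  (C.bad_Hc hw).cent (mem_cent.2 hx)

theorem normalizer_H : Subgroup.normalizer (H : Set G) = H := by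
  haveI := C.hyp.simple
  by_contra hne
  have htop := C.bad.coatom.2 _ (lt_of_le_of_ne Subgroup.le_normalizer (Ne.symm hne))
  haveI : H.Normal := Subgroup.normalizer_eq_top_iff.1 htop
  rcases C.hyp.simple.eq_bot_or_eq_top_of_normal H inferInstance with e | e
  · have := C.bad.mem
    rw [e, Subgroup.mem_bot] at this
    exact ne_one_of_invol C.bad.invol this
  · exact C.bad.coatom.1 e

theorem Hc_ne : Hc t H v ≠ H := by
  obtain ⟨g, hg, e⟩ := C.exists_Hc C.invol
  intro h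
  rw [e] at h
  refine C.not_fused g ?_ hg
  rw [← C.normalizer_H]
  exact Subgroup.mem_normalizer_fintype fun x hx => h ▸ conj_mem_cj hx

theorem OO_Hc_bot {r : ℕ} (hr : OO r H = ⊥) {w : G} (hw : orderOf w = 2) : OO r (Hc t H w) = ⊥ := by
  obtain ⟨g, -, e⟩ := C.exists_Hc hw
  rw [e, OO_cj, hr, cj_eq_bot]

theorem moved_Hc {p : ℕ} (hp : Moved t H p) {w : G} (hw : orderOf w = 2) :
    ∃ f ∈ OO p (Hc t H w), w * f ≠ f * w := by
  obtain ⟨g, hg, e⟩ := C.exists_Hc hw
  obtain ⟨-, x, hx, hmv⟩ := hp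
  refine ⟨g * x * g⁻¹, by rw [e, OO_cj]; exact conj_mem_cj hx, fun h => hmv ?_⟩
  have h' : Commute (g * t * g⁻¹) (g * x * g⁻¹) := by rw [hg]; exact h
  exact ((Commute.conj_iff g).1 h').eq

theorem odd_OO (r : ℕ) (hr : r.Prime) {w : G} (hw : orderOf w = 2) : Odd (Nat.card (OO r (Hc t H w))) :=
  (C.bad_Hc hw).odd.of_dvd_nat (Subgroup.card_dvd_of_le (OO_le_FF hr _))

theorem ne_two {p : ℕ} (hp : OO p H ≠ ⊥) : p ≠ 2 := C.bad.ne_two hp

theorem moved_ne_bot {p : ℕ} (hp : Moved t H p) : OO p H ≠ ⊥ := fun e => by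
  obtain ⟨-, x, hx, hmv⟩ := hp
  rw [e, Subgroup.mem_bot] at hx
  exact hmv (by rw [hx, mul_one, one_mul])

/-- An element of `H_w` inverted by `t` centralizing the fixed points of `t` in `F(H_w)` at its coprime
primes centralizes them. -/
theorem centralizes_OO {w : G} (hw : orderOf w = 2) (hwt : t * w = w * t) {s : ℕ} (hs : s.Prime) {x : G}
    (hx : x ∈ Hc t H w) (hinv : t * x * t⁻¹ = x⁻¹) (hxo : Odd (orderOf x))
    (hcop : (orderOf x).Coprime s)
    (hfix : ∀ y ∈ OO s (Hc t H w), t * y = y * t → x * y = y * x) :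
    ∀ y ∈ OO s (Hc t H w), x * y = y * x := by
  haveI := Fact.mk hs
  obtain ⟨k, hk⟩ := (OO_isPGroup s (Hc t H w)).exists_card_eq
  exact centralizes_of_inverted (OO_isPGroup s (Hc t H w)).isNilpotent (C.odd_OO s hs hw) C.bad.invol
    (mem_normalizer_OO hx) (mem_normalizer_OO (C.mem_Hc hw hwt)) hinv hxo
    (hk ▸ Nat.Coprime.pow_right k hcop) hfix

/-- An element of `H_w` of order prime to `|F(H)|` centralizing `F(H_w)` is trivial. -/
theorem eq_one_of_centralizes {w : G} (hw : orderOf w = 2) {r : ℕ} (hr : r.Prime) (hrH : OO r H = ⊥) {x : G}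
    (hx : x ∈ Hc t H w) {k : ℕ} (hk : orderOf x = r ^ k)
    (hc : ∀ s, s.Prime → ∀ y ∈ OO s (Hc t H w), x * y = y * x) : x = 1 := by
  have h := mem_OO_of_FF hr (self_cent (C.bad_Hc hw).layer hx (comm_FF_of_OO hc)) hk
  rwa [C.OO_Hc_bot hrH hw, Subgroup.mem_bot] at h

/-- The elements of `O_p(H)` inverted by `t` centralize the other primes of `F(H_w)`. -/
theorem inverted_cent {w : G} (hw : orderOf w = 2) (hwt : t * w = w * t) {p q : ℕ} (hp : p.Prime) (hq : q.Prime)
    (hqp : q ≠ p) {a : G} (ha : a ∈ OO p H) (haw : a ∈ Hc t H w) (hinv : t * a * t⁻¹ = a⁻¹) :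
    ∀ y ∈ OO q (Hc t H w), a * y = y * a := by
  obtain ⟨k, hk⟩ := OO_pow_order hp ha
  refine C.centralizes_OO hw hwt hq haw hinv (odd_orderOf (C.bad.odd) (OO_le_FF hp H ha))
    (hk ▸ Nat.Coprime.pow_left k ((Nat.coprime_primes hp hq).2 (Ne.symm hqp))) fun y hy hty => ?_
  exact comm_of_OO hp hq (Ne.symm hqp) ha hy haw (C.cent_le hty.symm)

/-- A perfect subgroup of `H` does not contain `v`. -/
theorem not_mem_perfect {L : Subgroup G} [Group.IsPerfect L] (hLH : L ≤ H) : v ∉ L := by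
  intro hvL
  set C₀ := Subgroup.centralizer ({t} : Set G) with hC₀
  have ht := C.bad.invol
  have hC0H : C₀ ≤ H := C.bad.cent
  set tH : H := ⟨t, C.bad.mem⟩
  have htH : orderOf tH = 2 := (Subgroup.orderOf_mk t C.bad.mem).trans ht
  have hzs := CfsgLib.ZStar.commutator_mem htH fun g hg => Subtype.ext
    (C.iso H C.bad.coatom.1 C.bad.cent g g.2 (congrArg Subtype.val hg.symm.eq :))
  set O := oddCore H with hO
  have hOodd : Odd (Nat.card O) := CfsgLib.odd_card_oddCore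
  -- every element is a product
  have hdec : ∀ x : H, ∃ c : H, (c : G) ∈ C₀ ∧
      (QuotientGroup.mk' O c : H ⧸ O) = QuotientGroup.mk' O x := by
    intro x
    have hx : x * tH * x⁻¹ * tH⁻¹ ∈ O := by
      rw [show x * tH * x⁻¹ * tH⁻¹ = (tH * x * tH⁻¹ * x⁻¹)⁻¹ by group]
      exact inv_mem (hzs x)
    obtain ⟨s, hs, hsx⟩ := BG.exists_lift hOodd htH hx
    refine ⟨s⁻¹ * x, mem_cent.2 (congrArg Subtype.val (mem_cent.1 hsx) :), ?_⟩
    rw [map_mul, map_inv, show QuotientGroup.mk' O s = 1 from (QuotientGroup.eq_one_iff s).2 hs, inv_one, one_mul]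
  set φ : C₀ →* H ⧸ O := (QuotientGroup.mk' O).comp (Subgroup.inclusion hC0H) with hφ
  have hsurj : Function.Surjective φ := fun y => by
    obtain ⟨x, rfl⟩ := QuotientGroup.mk'_surjective O y
    obtain ⟨c, hc, e⟩ := hdec x
    exact ⟨⟨c, hc⟩, e⟩
  have hcomm : commutator (H ⧸ O) = (commutator C₀).map φ := by
    rw [commutator_def, commutator_def, Subgroup.map_commutator, ← MonoidHom.range_eq_map,
      MonoidHom.range_eq_top.2 hsurj]
  -- `v` is a commutator of `C` modulo the core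
  have hvC : v ∈ C₀ := mem_cent.2 C.comm.symm
  have hv1 : φ ⟨v, hvC⟩ ∈ commutator (H ⧸ O) := by
    have hle : L.subgroupOf H ≤ (commutator (H ⧸ O)).comap (QuotientGroup.mk' O) := by
      haveI : Group.IsPerfect (L.subgroupOf H) :=
        Group.IsPerfect.ofSurjective (f := (Subgroup.subgroupOfEquivOfLe hLH).symm.toMonoidHom)
          (Subgroup.subgroupOfEquivOfLe hLH).symm.surjective
      intro x hx
      have hx' : (⟨x, hx⟩ : L.subgroupOf H) ∈ commutator (L.subgroupOf H) := by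
        rw [Group.IsPerfect.commutator_eq_top]; trivial
      rw [commutator_def] at hx'
      have := Subgroup.map_commutator (⊤ : Subgroup (L.subgroupOf H)) ⊤
        ((QuotientGroup.mk' O).comp (L.subgroupOf H).subtype)
      rw [Subgroup.mem_comap, commutator_def]
      exact Subgroup.commutator_mono le_top le_top (this ▸ Subgroup.mem_map_of_mem _ hx')
    exact hle (show (⟨v, C.v_mem⟩ : H) ∈ L.subgroupOf H from hvL)
  rw [hcomm] at hv1
  obtain ⟨⟨c, hcC⟩, hc, hcv⟩ := hv1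
  obtain ⟨o, ho, e⟩ := (QuotientGroup.mk'_eq_mk' O).1
    (show QuotientGroup.mk' O ⟨c, hC0H hcC⟩ = QuotientGroup.mk' O ⟨v, C.v_mem⟩ from hcv)
  have e' : c * (o : G) = v := congrArg Subtype.val e
  have hoC : (o : G) ∈ C₀ := by
    have : (o : G) = c⁻¹ * v := by rw [← e']; group
    rw [this]
    exact mul_mem (inv_mem hcC) hvC
  -- the core of the centraliser
  set O₁ := oddCore C₀ with hO₁
  have hO₁odd : Odd (Nat.card O₁) := CfsgLib.odd_card_oddCore
  have hoO₁ : (⟨o, hoC⟩ : C₀) ∈ O₁ := by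
    refine CfsgLib.le_oddCore (N := O.comap (Subgroup.inclusion hC0H)) ?_ (show _ ∈ O from ho)
    refine hOodd.of_dvd_nat ?_
    exact Subgroup.card_dvd_of_injective ((Subgroup.inclusion hC0H).subgroupComap O) fun a b h => by
      have := congrArg (fun z : O => ((z : H) : G)) h
      exact Subtype.ext (Subtype.ext this)
  have hvq : QuotientGroup.mk' O₁ ⟨v, hvC⟩ ∈ commutator (C₀ ⧸ O₁) := by
    rw [show (⟨v, hvC⟩ : C₀) = ⟨c, hcC⟩ * ⟨o, hoC⟩ from Subtype.ext e'.symm, map_mul,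
      show QuotientGroup.mk' O₁ ⟨o, hoC⟩ = 1 from (QuotientGroup.eq_one_iff _).2 hoO₁, mul_one, commutator_def]
    rw [commutator_def] at hc
    have := Subgroup.map_commutator (⊤ : Subgroup C₀) ⊤ (QuotientGroup.mk' O₁)
    exact Subgroup.commutator_mono le_top le_top (this ▸ Subgroup.mem_map_of_mem _ hc)
  -- it is the involution of `SL₂`, hence central
  obtain ⟨F, _, _, hodd, ⟨θ⟩⟩ := C.hyp.centralizer_sl t ht
  set vq : commutator (C₀ ⧸ O₁) := ⟨_, hvq⟩
  have hnotO : ∀ {x : C₀}, orderOf x = 2 → x ∉ O₁ := fun {x} hx hxO => by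
    have := Subgroup.orderOf_dvd_natCard O₁ hxO
    rw [hx] at this
    exact Nat.not_even_iff_odd.2 hO₁odd (even_iff_two_dvd.2 this)
  have hvq2 : vq * vq = 1 := Subtype.ext (by
    show QuotientGroup.mk' O₁ ⟨v, hvC⟩ * QuotientGroup.mk' O₁ ⟨v, hvC⟩ = 1
    rw [← map_mul, show (⟨v, hvC⟩ : C₀) * ⟨v, hvC⟩ = 1 from Subtype.ext (invol_mul_self C.invol), map_one])
  have hvq1 : vq ≠ 1 := fun e => hnotO ((Subgroup.orderOf_mk v hvC).trans C.invol)
    ((QuotientGroup.eq_one_iff _).1 (congrArg Subtype.val e))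
  obtain ⟨s, hs, hsv⟩ := C.swap
  set sq := QuotientGroup.mk' O₁ (⟨s, hs⟩ : C₀)
  set wq : commutator (C₀ ⧸ O₁) :=
    ⟨sq * (vq : C₀ ⧸ O₁) * sq⁻¹, (inferInstance : (commutator (C₀ ⧸ O₁)).Normal).conj_mem _ vq.2 sq⟩ with hwq
  have hwq2 : wq * wq = 1 := Subtype.ext (by
    show sq * (vq : C₀ ⧸ O₁) * sq⁻¹ * (sq * vq * sq⁻¹) = 1
    have : (vq : C₀ ⧸ O₁) * vq = 1 := congrArg Subtype.val hvq2
    rw [show sq * (vq : C₀ ⧸ O₁) * sq⁻¹ * (sq * vq * sq⁻¹) = sq * (vq * vq) * sq⁻¹ by group, this]; group)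
  have hwq1 : wq ≠ 1 := fun e => hvq1 (Subtype.ext (by
    have e' : sq * (vq : C₀ ⧸ O₁) * sq⁻¹ = 1 := congrArg Subtype.val e
    exact conj_eq_one_iff.1 e'))
  have heq : wq = vq := θ.injective (sl_invol_unique (F := F) hodd (by rw [← map_mul, hwq2, map_one])
    (by rw [← map_mul, hvq2, map_one]) (fun e => hwq1 (θ.injective (e.trans θ.map_one.symm)))
    (fun e => hvq1 (θ.injective (e.trans θ.map_one.symm))))
  have e1 : QuotientGroup.mk' O₁ (⟨s, hs⟩ * ⟨v, hvC⟩ * ⟨s, hs⟩⁻¹ : C₀) = QuotientGroup.mk' O₁ ⟨v, hvC⟩ := by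
    rw [map_mul, map_mul, map_inv]
    exact congrArg Subtype.val heq
  rw [show (⟨s, hs⟩ * ⟨v, hvC⟩ * ⟨s, hs⟩⁻¹ : C₀) = ⟨t, mem_cent_self t⟩ * ⟨v, hvC⟩ from Subtype.ext hsv,
    map_mul, mul_eq_right] at e1
  exact hnotO ((Subgroup.orderOf_mk t (mem_cent_self t)).trans ht) ((QuotientGroup.eq_one_iff _).1 e1)

/-- With a swap, some element of `O_p(H_v)` fixed by `t` is moved by `v`. -/
theorem fixed_moved {p : ℕ}
    (hp : Moved t H p) : ∃ f ∈ OO p (Hc t H v), t * f = f * t ∧ v * f ≠ f * v := by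
  obtain ⟨s, hs, hsv⟩ := C.swap
  -- some element of `O_p(H)` fixed by `t v` is moved by `t`
  have hex : ∃ y ∈ OO p H, (t * v) * y = y * (t * v) ∧ t * y ≠ y * t := by
    by_contra hno
    push Not at hno
    have hu : ∀ y ∈ OO p H, v * y = y * v → t * y = y * t := by
      intro y hy hvy
      have hst : s * t = t * s := mem_cent.1 hs
      have h1 : Commute (t * v) (s * y * s⁻¹) := by
        rw [← hsv]; exact (Commute.conj_iff s).2 hvy
      have h2 := hno _ (conj_OO (C.cent_le hst) hy) h1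
      have h3 : Commute (s * t * s⁻¹) (s * y * s⁻¹) := by rw [conj_eq_self hst]; exact h2
      exact ((Commute.conj_iff s).1 h3).eq
    obtain ⟨hpp, x, hx, hmv⟩ := hp
    have hodd : Odd (Nat.card (OO p H)) := C.bad.odd.of_dvd_nat (Subgroup.card_dvd_of_le (OO_le_FF hpp _))
    obtain ⟨a, ha, hap, hinv⟩ := exists_inverted hodd C.bad.invol (mem_normalizer_OO C.bad.mem) hx hmv
    have h1 := inverted_of_centralizer_le hodd C.bad.invol C.invol C.comm (mem_normalizer_OO C.bad.mem)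
      (mem_normalizer_OO C.v_mem) hu ha hinv
    have h2 := hno a ha h1
    rw [conj_eq_self h2] at hinv
    exact hap.ne_one (orderOf_eq_one_iff.2 (eq_one_of_sq hodd ha (eq_inv_iff_mul_eq_one.1 hinv)))
  obtain ⟨y, hy, hy1, hy2⟩ := hex
  obtain ⟨g, hgt, hgv, hgtv⟩ := C.hyp.three C.bad.invol C.invol C.comm C.ne
  refine ⟨g * y * g⁻¹, by rw [Hc_eq C.bad.cent hgt, OO_cj]; exact conj_mem_cj hy, ?_, fun h => hy2 ?_⟩
  · have h : Commute (g * (t * v) * g⁻¹) (g * y * g⁻¹) := (Commute.conj_iff g).2 hy1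
    rw [hgtv] at h
    exact h.eq
  · have h' : Commute (g * t * g⁻¹) (g * y * g⁻¹) := by rw [hgt]; exact h
    exact ((Commute.conj_iff g).1 h').eq

theorem meets_two {Y : Subgroup G} (htY : t ∈ Y) (hvY : v ∈ Y) (hO : OO 2 Y ≠ ⊥) :
    t ∈ OO 2 Y ∨ v ∈ OO 2 Y ∨ t * v ∈ OO 2 Y :=
  C.hyp.meets_normal C.bad.invol C.invol C.comm C.ne htY hvY OO_le (fun y hy x hx => conj_OO hy hx)
    (two_group_even (OO_isPGroup 2 Y) hO)

/-- The component of a subgroup over the four group without `O₂`. -/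
theorem exists_comp' {Y : Subgroup G} (hY : Y ≠ ⊤) (hE : EE Y ≠ ⊥) (hO : OO 2 Y = ⊥) : ∃ L, Comp Y L := by
  haveI : Fact (Nat.Prime 2) := ⟨Nat.prime_two⟩
  refine (C.hyp.exists_comp hY hE).resolve_right fun ⟨w, hwY, hw, hle⟩ => ?_
  have hpg : IsPGroup 2 (Subgroup.zpowers w) :=
    IsPGroup.of_card (n := 1) (by rw [Nat.card_zpowers, hw, pow_one])
  have hmem := isPGroup_normal_le_OO hpg (Subgroup.zpowers_le.2 hwY) (fun y hy x hx => by
    obtain ⟨i, rfl⟩ := Subgroup.mem_zpowers_iff.1 hx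
    rw [← conj_zpow, conj_eq_self (mem_cent.1 (hle hy))]
    exact Subgroup.zpow_mem_zpowers w i) (Subgroup.mem_zpowers w)
  rw [hO, Subgroup.mem_bot] at hmem
  exact ne_one_of_invol hw hmem

/-- The component contains one of the three involutions. -/
theorem comp_meets {Y L : Subgroup G} (hL : Comp Y L) (htY : t ∈ Y) (hvY : v ∈ Y) :
    t ∈ L ∨ v ∈ L ∨ t * v ∈ L := by
  haveI := hL.perfect
  exact C.hyp.meets_normal C.bad.invol C.invol C.comm C.ne htY hvY hL.le hL.norm (not_odd_of_perfect hL.ne)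

/-- `t` is not in a component lying in `H`. -/
theorem comp_not_le {Y L : Subgroup G} (hL : Comp Y L) (hLH : L ≤ H) : t ∉ L := by
  intro htL
  haveI := hL.perfect
  have hc := comm_of_isolated hL.core.le C.bad.invol htL
    fun g hg => C.iso H C.bad.coatom.1 C.bad.cent g (hLH hg)
  have hz : (⟨t, htL⟩ : L) ∈ Subgroup.center L :=
    Subgroup.mem_center_iff.2 fun x => Subtype.ext (hc x x.2)
  have := Subgroup.orderOf_dvd_natCard _ hz
  rw [Subgroup.orderOf_mk, C.bad.invol] at this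
  exact Nat.not_even_iff_odd.2 hL.center_odd (even_iff_two_dvd.2 this)

/-- The radical of `O_r(H_w)` in the component. -/
theorem rad_Hc {Y L : Subgroup G} (hL : Comp Y L) {w : G} (hwL : w ∈ L) (hw : orderOf w = 2) {r : ℕ} (hr : r.Prime)
    {f : G} (hf : f ∈ OO r (Hc t H w)) (hfY : f ∈ Y) (hmv : w * f ≠ f * w) : Rad L r w (L ⊓ OO r (Hc t H w)) := by
  refine hL.rad_of_moved hwL hw hr ((C.bad_Hc hw).ne_two fun e => hmv ?_) (OO_isPGroup r _)
    (fun c hc x hx => conj_OO (C.mem_Hc hw hc) hx) hf hfY hmv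
  rw [e, Subgroup.mem_bot] at hf
  rw [hf, mul_one, one_mul]

/-- An involution of the four group normalises each such radical. -/
theorem rad_invol_Hc {Y L : Subgroup G} (hY : Y ≠ ⊤) (hL : Comp Y L) {w : G} {r : ℕ}
    (hR : Rad L r w (L ⊓ OO r (Hc t H w))) {τ : G} (hτ : orderOf τ = 2) (hτY : τ ∈ Y) (hτw : τ * w = w * τ) :
    τ ∈ L :=
  C.hyp.rad_invol hY hL hR hτ (hL.norm τ hτY) hτw
    fun x hx => ⟨hL.norm τ hτY x hx.1, conj_OO (C.mem_Hc hR.word hτw) hx.2⟩

/-- Two moved primes in a component at `t`. -/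
theorem rad_prime_H {Y L : Subgroup G} (hY : Y ≠ ⊤) (hL : Comp Y L) (htL : t ∈ L) {r s : ℕ} (hr : r.Prime)
    (hs : s.Prime) {f g : G} (hf : f ∈ OO r H) (hfY : f ∈ Y) (hfm : t * f ≠ f * t) (hg : g ∈ OO s H) (hgY : g ∈ Y)
    (hgm : t * g ≠ g * t) : r = s :=
  C.hyp.rad_prime hY hL
    (hL.rad_of_moved htL C.bad.invol hr (C.bad.ne_two fun e => hfm (by
      rw [e, Subgroup.mem_bot] at hf; rw [hf, mul_one, one_mul])) (OO_isPGroup r H)
      (fun c hc x hx => conj_OO (C.cent_le hc) hx) hf hfY hfm)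
    (hL.rad_of_moved htL C.bad.invol hs (C.bad.ne_two fun e => hgm (by
      rw [e, Subgroup.mem_bot] at hg; rw [hg, mul_one, one_mul])) (OO_isPGroup s H)
      (fun c hc x hx => conj_OO (C.cent_le hc) hx) hg hgY hgm)

/-- An element fixed by `t` commuting with a moved `O_r(H)` centralises a component containing `t`. -/
theorem rad_cent_H {Y L : Subgroup G} (hY : Y ≠ ⊤) (hL : Comp Y L) (htL : t ∈ L) {r : ℕ} (hr : r.Prime)
    {f : G} (hf : f ∈ OO r H) (hfY : f ∈ Y) (hfm : t * f ≠ f * t) {x : G} (hxY : x ∈ Y) (hxt : x * t = t * x)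
    (hxc : ∀ y ∈ OO r H, x * y = y * x) : ∀ y ∈ L, x * y = y * x :=
  C.hyp.rad_cent hY hL
    (hL.rad_of_moved htL C.bad.invol hr (C.bad.ne_two fun e => hfm (by
      rw [e, Subgroup.mem_bot] at hf; rw [hf, mul_one, one_mul])) (OO_isPGroup r H)
      (fun c hc x hx => conj_OO (C.cent_le hc) hx) hf hfY hfm)
    (hL.norm x hxY) hxt fun y hy => hxc y hy.2

end MCtx

end CfsgLib.RankTwoModel
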