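import Cfsg.Agent.Lib.RankTwoModel.MultiCase.Close

/-!
The case of at least two primes is impossible (after `Lib/BG/Multi`).

* `multi_false`: a `Bad` subgroup over the centraliser of an isolated involution has a single prime.
* `bad_of_iso`: such a subgroup is `Bad`.
-/

set_option autoImplicit false
set_option maxHeartbeats 800000
set_option linter.unusedSectionVars false
set_option linter.style.haveILetI false

namespace CfsgLib.RankTwoModel

open Cfsg CfsgLib.BG CfsgLib.GW CfsgLib.DihedralFusion CfsgLib.BenderMax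

universe u

variable {G : Type u} [Group G] [Finite G]

namespace MCtx

variable {t v : G} {H : Subgroup G} (C : MCtx t v H)

include C

theorem IC_ne_top {p : ℕ} (hp : p.Prime) (hp2 : p ≠ 2) {e : G} (hep : orderOf e = p) : IC e ≠ ⊤ := fun h => by
  refine C.hyp.normalizer_ne_top (R := Subgroup.zpowers e) (fun h' => hp.ne_one ?_) ?_ (top_le_iff.1 (h ▸ IC_le_normalizer e))
  · rw [← hep, ← Nat.card_zpowers, h', Subgroup.card_bot]
  · rw [Nat.card_zpowers, hep]
    exact hp.odd_of_ne_two hp2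

theorem odd_order_of_mem {p : ℕ} (hp : p.Prime) {e : G} (he : e ∈ OO p H) : Odd (orderOf e) :=
  odd_orderOf C.bad.odd (OO_le_FF hp H he)

theorem prime_order {p : ℕ} (hp : p.Prime) {e : G} (he : e ∈ OO p H) (h : (orderOf e).Prime) : orderOf e = p := by
  obtain ⟨k, hk⟩ := OO_pow_order hp he
  exact (Nat.prime_dvd_prime_iff_eq h hp).1 (h.dvd_of_dvd_pow (dvd_of_eq hk))

theorem base (hm : Multi H) {p : ℕ} (hpm : Moved t H p) {e : G} (he : e ∈ OO p H) (hep : orderOf e = p)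
    (ht : t ∈ IC e) (hv : v ∈ IC e) (hte : t * e * t⁻¹ = e⁻¹ ∨ ∀ x ∈ OO p H, e * x = x * e) :
    Mid t v e (IC e) := by
  have hp := hpm.1
  haveI := Fact.mk hp
  have hp2 := C.ne_two (C.moved_ne_bot hpm)
  have hY := C.IC_ne_top hp hp2 hep
  have hmove : ∀ w : G, orderOf w = 2 → w * e = e * w →
      ∃ f ∈ OO p (Hc t H w), f ∈ IC e ∧ w * f ≠ f * w := by
    intro w hw hwe
    by_contra hno
    push Not at hno
    obtain ⟨f, hf, hfm⟩ := C.moved_Hc hpm hw
    have heH : e ∈ Hc t H w := C.mem_Hc hw hwe.symm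
    refine hfm (centralizes_of_fixed (A := Subgroup.zpowers e)
      (IsPGroup.of_card (n := 1) (by rw [Nat.card_zpowers, hep, pow_one])) (OO_isPGroup p (Hc t H w))
      (Subgroup.zpowers_le.2 (mem_normalizer_OO heH)) (mem_normalizer_OO (C.bad_Hc hw).mem)
      (by rw [hw]; exact (Nat.coprime_primes Nat.prime_two hp).2 (Ne.symm hp2)) (fun a ha => ?_)
      (fun y hy hye => hno y hy (IC_cent (hye e (Subgroup.mem_zpowers e)).symm)) f hf)
    obtain ⟨i, rfl⟩ := Subgroup.mem_zpowers_iff.1 ha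
    exact ((show Commute e w from hwe.symm).zpow_left i).eq
  have hO2 : OO 2 (IC e) = ⊥ := by
    by_contra hO
    obtain ⟨w, hw, hwO⟩ : ∃ w, orderOf w = 2 ∧ w ∈ OO 2 (IC e) := by
      rcases C.meets_two ht hv hO with h | h | h
      · exact ⟨t, C.bad.invol, h⟩
      · exact ⟨v, C.invol, h⟩
      · exact ⟨t * v, C.tv_invol, h⟩
    have hwe : w * e = e * w := not_mem_two' hwO (R₀ := Subgroup.zpowers e)
      (by rw [Nat.card_zpowers, hep]; exact hp.odd_of_ne_two hp2) (IC_le_normalizer e (OO_le hwO))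
      (Subgroup.mem_zpowers e) (IC_cent rfl)
    obtain ⟨f, hf, hfY, hfm⟩ := hmove w hw hwe
    exact hfm (not_mem_two' hwO (C.odd_OO p hp hw) (mem_normalizer_OO (C.bad_Hc hw).mem) hf hfY)
  refine ⟨hY, ht, hv, fun x hx => IC_cent hx, ?_, hO2⟩
  by_contra hE
  obtain ⟨L, hL⟩ := C.exists_comp' hY hE hO2
  have hLe : ∀ a ∈ L, a * e = e * a := fun a ha => EE_IC_cent (hL.layer.symm ▸ ha)
  obtain ⟨w, hw, hwL, hwt⟩ : ∃ w, orderOf w = 2 ∧ w ∈ L ∧ t * w = w * t := by
    rcases C.comp_meets hL ht hv with h | h | h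
    · exact ⟨t, C.bad.invol, h, rfl⟩
    · exact ⟨v, C.invol, h, C.comm⟩
    · exact ⟨t * v, C.tv_invol, h, C.comm_tv⟩
  obtain ⟨f, hf, hfY, hfm⟩ := hmove w hw (hLe w hwL)
  have htL : t ∈ L := C.rad_invol_Hc hY hL (C.rad_Hc hL hwL hw hp hf hfY hfm) C.bad.invol ht hwt
  rcases hte with hinv | hec
  · rw [conj_eq_self (hLe t htL)] at hinv
    have h1 := eq_one_of_sq C.bad.odd (OO_le_FF hp H he) (eq_inv_iff_mul_eq_one.1 hinv)
    rw [h1, orderOf_one] at hep
    exact hp.ne_one hep.symm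
  · obtain ⟨-, f₀, hf₀, hmv⟩ := id hpm
    have hF : ∀ {r : ℕ}, r.Prime → ∀ g ∈ OO r H, g ∈ IC e := fun {r} hr g hg => IC_cent (by
      by_cases hrp : r = p
      · subst hrp; exact (hec g hg).symm
      · exact OO_comm hr hp hrp hg he)
    obtain ⟨q, hq, hqp, hne⟩ := hm p
    by_cases hqm : ∃ g ∈ OO q H, t * g ≠ g * t
    · obtain ⟨g, hg, hgm⟩ := hqm
      exact hqp (C.rad_prime_H hY hL htL hq hp hg (hF hq g hg) hgm hf₀ (hF hp f₀ hf₀) hmv)
    push Not at hqm
    refine C.comp_not_le hL (fun a ha => C.cent_OO_le hne fun y hy => ?_) htL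
    exact (C.rad_cent_H hY hL htL hp hf₀ (hF hp f₀ hf₀) hmv (hF hq y hy) (hqm y hy).symm
      (fun z hz => OO_comm hq hp hqp hy hz) a ha).symm

/-- The extra hypothesis when a moved piece of `F(H)` centralizes `e`. -/
theorem extra_of_moved {p : ℕ} (hp : p.Prime) {e : G} (he : e ∈ OO p H) (hep : orderOf e = p)
    {p₀ : ℕ} (hcomm : ∀ x, (∀ f ∈ OO p₀ H, x * (f⁻¹ * (t * f * t⁻¹)) = f⁻¹ * (t * f * t⁻¹) * x) → x ∈ H)
    (hc : ∀ f ∈ OO p₀ H, f * e = e * f) : BG.Ctx.Extra t v H e := by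
  intro Y hY r hr hrH
  by_contra hne
  have hr2 : r ≠ 2 := fun h => hne (h ▸ hY.two)
  have hRH := C.mid_disjoint hp he hep hY hr hrH
  have hinv := all_inverted (OO_odd hr hr2 Y) C.bad.invol (mem_normalizer_OO hY.left) fun x hx htx => by
    have : x ∈ OO r Y ⊓ H := ⟨hx, C.cent_le htx.symm⟩
    rwa [hRH, Subgroup.mem_bot] at this
  refine hne (eq_bot_iff.2 fun x hx => ?_)
  rw [← hRH]
  refine ⟨hx, hcomm x fun f hf => ?_⟩
  have hfY := hY.cent f (hc f hf)
  have hy : f * x * f⁻¹ ∈ OO r Y := conj_OO hfY hx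
  have h1 : (t * f * t⁻¹) * x⁻¹ * (t * f * t⁻¹)⁻¹ = f * x⁻¹ * f⁻¹ := by
    rw [← hinv x hx, show t * f * t⁻¹ * (t * x * t⁻¹) * (t * f * t⁻¹)⁻¹ = t * (f * x * f⁻¹) * t⁻¹ by group,
      hinv _ hy, hinv x hx]
    group
  have h2 : Commute (f⁻¹ * (t * f * t⁻¹)) x⁻¹ := BG.comm_of_conj_eq (by
    rw [show f⁻¹ * (t * f * t⁻¹) * x⁻¹ * (f⁻¹ * (t * f * t⁻¹))⁻¹ =
      f⁻¹ * ((t * f * t⁻¹) * x⁻¹ * (t * f * t⁻¹)⁻¹) * f by group, h1]
    group)
  exact (Commute.inv_right_iff.1 h2).symm.eq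

/-- Centralizers of central elements at an unmoved prime. -/
theorem close_unmoved (hm : Multi H) {p : ℕ} (hp : Moved t H p) {q : ℕ} (hq : q.Prime) (hqp : q ≠ p)
    {d : G} (hd : d ∈ OO q H) (hdq : orderOf d = q) (hdc : ∀ x ∈ OO q H, d * x = x * d)
    (htd : t * d = d * t) (hvd : v * d = d * v) : ∀ x : G, x * d = d * x → x ∈ H := by
  obtain ⟨hpp, f₀, hf₀, hmv⟩ := hp
  have hcent : ∀ f ∈ OO p H, f * d = d * f := fun f hf => OO_comm hpp hq (Ne.symm hqp) hf hd
  have hall : ∀ y ∈ FF H, y * d = d * y := fun y hy => (comm_FF_of_OO (x := d) (fun s hs z hz => by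
    by_cases hsq : s = q
    · subst hsq; exact hdc z hz
    · exact OO_comm hq hs (Ne.symm hsq) hd hz) y hy).symm
  have hq2 := C.ne_two (p := q) fun h => by
    rw [h, Subgroup.mem_bot] at hd
    rw [hd, orderOf_one] at hdq
    exact hq.ne_one hdq.symm
  have hY := C.IC_ne_top hq hq2 hdq
  have htI : t ∈ IC d := IC_cent htd
  have hvI : v ∈ IC d := IC_cent hvd
  have hO2 : OO 2 (IC d) = ⊥ := by
    by_contra hO
    obtain ⟨w, hw, hwO, hwH⟩ : ∃ w, orderOf w = 2 ∧ w ∈ OO 2 (IC d) ∧ w ∈ H := by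
      rcases C.meets_two htI hvI hO with h | h | h
      · exact ⟨t, C.bad.invol, h, C.bad.mem⟩
      · exact ⟨v, C.invol, h, C.v_mem⟩
      · exact ⟨t * v, C.tv_invol, h, mul_mem C.bad.mem C.v_mem⟩
    exact not_mem_of_odd C.bad.odd hw (self_cent C.bad.layer hwH fun y hy =>
      not_mem_two' hwO C.bad.odd (mem_normalizer_FF hwH) hy (IC_cent (hall y hy)))
  have hmid : Mid t v d (IC d) := by
    refine ⟨hY, htI, hvI, fun x hx => IC_cent hx, ?_, ?_⟩
    · by_contra hE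
      have hO : OO 2 (IC d) = ⊥ := hO2
      obtain ⟨L, hL⟩ := C.exists_comp' hY hE hO
      have hLd : ∀ a ∈ L, a * d = d * a := fun a ha => EE_IC_cent (hL.layer.symm ▸ ha)
      have hpm : Moved t H p := ⟨hpp, f₀, hf₀, hmv⟩
      have key : ∀ w, MCtx t w H → w ∈ L → t ∈ L := by
        intro w Cw hwL
        obtain ⟨f, hf, htf, hfm⟩ := Cw.fixed_moved hpm
        refine C.rad_invol_Hc hY hL (C.rad_Hc hL hwL Cw.invol hpp hf (IC_cent ?_) hfm) C.bad.invol htI Cw.comm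
        exact comm_of_OO hpp hq (Ne.symm hqp) hf hd (C.cent_le htf.symm) (C.mem_Hc Cw.invol (hLd w hwL).symm)
      have htL : t ∈ L := by
        rcases C.comp_meets hL htI hvI with h | h | h
        · exact h
        · exact key v C h
        · exact key (t * v) C.symm h
      have hF : ∀ {r : ℕ}, r.Prime → ∀ g ∈ OO r H, g ∈ IC d := fun {r} hr g hg =>
        IC_cent (hall g (OO_le_FF hr H hg))
      by_cases hqm : ∃ g ∈ OO q H, t * g ≠ g * t
      · obtain ⟨g, hg, hgm⟩ := hqm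
        exact hqp (C.rad_prime_H hY hL htL hq hpp hg (hF hq g hg) hgm hf₀ (hF hpp f₀ hf₀) hmv)
      push Not at hqm
      refine C.comp_not_le hL (fun a ha => C.cent_OO_le (r := q) (fun e => ?_) fun y hy => ?_) htL
      · rw [e, Subgroup.mem_bot] at hd
        rw [hd, orderOf_one] at hdq
        exact hq.ne_one hdq.symm
      · exact (C.rad_cent_H hY hL htL hpp hf₀ (hF hpp f₀ hf₀) hmv (hF hq y hy) (hqm y hy).symm
          (fun z hz => OO_comm hq hpp hqp hy hz) a ha).symm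
    · exact hO2
  intro x hx
  exact C.close hm hq hd hdq (C.extra_of_moved hq hd hdq (fun _ => C.cent_comm_le hm ⟨hpp, f₀, hf₀, hmv⟩) hcent) ⟨_, hmid⟩
    ⟨p, hpp, f₀, hf₀, hcent f₀ hf₀, hmv⟩ (Or.inr ⟨htd, hdc⟩) hpp (Ne.symm hqp) (C.moved_ne_bot ⟨hpp, f₀, hf₀, hmv⟩)
    (Or.inl ⟨hpp, f₀, hf₀, hmv⟩) hx

theorem exists_other (hm : Multi H) {p : ℕ} (hpm : Moved t H p) :
    ∃ q : ℕ, q.Prime ∧ q ≠ p ∧ OO q H ≠ ⊥ ∧ (Moved t H q ∨ ((∀ x ∈ OO q H, t * x = x * t) ∧
      ∀ d ∈ OO q H, orderOf d = q → (∀ x ∈ OO q H, d * x = x * d) → t * d = d * t → v * d = d * v →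
        ∀ x : G, x * d = d * x → x ∈ H)) := by
  by_cases h : ∃ q, q ≠ p ∧ Moved t H q
  · obtain ⟨q, hqp, hq⟩ := h
    exact ⟨q, hq.1, hqp, C.moved_ne_bot hq, Or.inl hq⟩
  · obtain ⟨q, hq, hqp, hne⟩ := hm p
    refine ⟨q, hq, hqp, hne, Or.inr ⟨fun x hx => ?_, fun d hd hdq hdc htd hvd =>
      C.close_unmoved hm hpm hq hqp hd hdq hdc htd hvd⟩⟩
    by_contra hx'
    exact h ⟨q, hqp, hq, x, hx, hx'⟩

/-- Centralizers of central elements at a moved prime. -/
theorem close_central (hm : Multi H) {p : ℕ} (hpm : Moved t H p) {z : G} (hz : z ∈ OO p H) (hzp : orderOf z = p)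
    (hzc : ∀ x ∈ OO p H, z * x = x * z) (ht : t ∈ IC z) (hv : v ∈ IC z) :
    ∀ x : G, x * z = z * x → x ∈ H := by
  obtain ⟨q, hq, hqp, hqH, hside⟩ := C.exists_other hm hpm
  obtain ⟨hp, f, hf, hfm⟩ := id hpm
  intro x hx
  exact C.close hm hp hz hzp (C.extra_of_moved hp hz hzp (fun _ => C.cent_comm_le hm hpm) fun f hf => (hzc f hf).symm)
    ⟨_, C.base hm hpm hz hzp ht hv (Or.inr hzc)⟩ ⟨p, hp, f, hf, (hzc f hf).symm, hfm⟩
    (ht.elim (fun h => Or.inr ⟨BG.comm_of_conj_eq h, hzc⟩) Or.inl) hq hqp hqH hside hx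

/-- The core of the extra hypothesis for a fixed element. -/
theorem extra_core {p : ℕ} (hp : p.Prime) {e : G} (he : e ∈ OO p H) (hep : orderOf e = p)
    (hev : e ∈ Hc t H v) (hte : t * e * t⁻¹ = e⁻¹) {Y : Subgroup G} (hcent : ∀ y : G, y * e = e * y → y ∈ Y)
    {r : ℕ} (hr : r.Prime) (hr2 : r ≠ 2) (hrH : OO r H = ⊥) (hinv : ∀ x ∈ OO r Y, t * x * t⁻¹ = x⁻¹)
    (hRe : ∀ x ∈ OO r Y, e * x = x * e) : ∀ x ∈ OO r Y, x ∈ Hc t H v → x = 1 := by
  intro x hx hxv
  haveI := Fact.mk hp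
  obtain ⟨k, hk⟩ := OO_pow_order hr hx
  have hxo : Odd (orderOf x) := hk ▸ (hr.odd_of_ne_two hr2).pow
  have htH : t ∈ Hc t H v := C.mem_Hc C.invol C.comm
  refine C.eq_one_of_centralizes C.invol hr hrH hxv hk fun s hs => ?_
  by_cases hsr : s = r
  · intro y hy
    rw [hsr, C.OO_Hc_bot hrH C.invol, Subgroup.mem_bot] at hy
    rw [hy, mul_one, one_mul]
  have hcop : (orderOf x).Coprime s := hk ▸ Nat.Coprime.pow_left k ((Nat.coprime_primes hr hs).2 (Ne.symm hsr))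
  by_cases hsp : s = p
  · subst hsp
    set P := OO s (Hc t H v) ⊓ Subgroup.centralizer ({e} : Set G) with hP
    have hPmem : ∀ y, y ∈ P ↔ y ∈ OO s (Hc t H v) ∧ y * e = e * y := fun y => by
      rw [hP, Subgroup.mem_inf, mem_cent]
    have hxP : x ∈ Subgroup.normalizer (P : Set G) := Subgroup.mem_normalizer_fintype fun y hy => by
      rw [SetLike.mem_coe, hPmem] at hy ⊢
      refine ⟨conj_OO hxv hy.1, (((show Commute x e from (hRe x hx).symm).mul_left hy.2).mul_left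
        (show Commute x e from (hRe x hx).symm).inv_left).eq⟩
    have htP : t ∈ Subgroup.normalizer (P : Set G) := Subgroup.mem_normalizer_fintype fun y hy => by
      rw [SetLike.mem_coe, hPmem] at hy ⊢
      refine ⟨conj_OO htH hy.1, ?_⟩
      have h1 : Commute (t * y * t⁻¹) (t * e * t⁻¹) := (Commute.conj_iff t).2 hy.2
      rw [hte] at h1
      exact (Commute.inv_right_iff.1 h1).eq
    have hPpg : IsPGroup s P := (OO_isPGroup s (Hc t H v)).to_le inf_le_left
    obtain ⟨j, hj⟩ := hPpg.exists_card_eq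
    have hCP : ∀ y ∈ P, x * y = y * x := centralizes_of_inverted hPpg.isNilpotent
      ((C.odd_OO s hs C.invol).of_dvd_nat (Subgroup.card_dvd_of_le inf_le_left)) C.bad.invol hxP htP (hinv x hx)
      hxo (hj ▸ Nat.Coprime.pow_right j hcop) fun y hy hty => by
        obtain ⟨hy1, hy2⟩ := (hPmem y).1 hy
        exact comm_of_OO hr hs (Ne.symm hsr) hx hy1 hxv (hcent y hy2)
    refine centralizes_of_fixed (A := Subgroup.zpowers e) (IsPGroup.of_card (n := 1) (by
      rw [Nat.card_zpowers, hep, pow_one])) (OO_isPGroup s _)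
      (Subgroup.zpowers_le.2 (mem_normalizer_OO hev)) (mem_normalizer_OO hxv) hcop (fun a ha => ?_)
      (fun y hy hye => hCP y ((hPmem y).2 ⟨hy, (hye e (Subgroup.mem_zpowers e)).symm⟩))
    obtain ⟨i, rfl⟩ := Subgroup.mem_zpowers_iff.1 ha
    exact ((show Commute e x from hRe x hx).zpow_left i).eq
  · refine C.centralizes_OO C.invol C.comm hs hxv (hinv x hx) hxo hcop fun y hy hty => ?_
    exact comm_of_OO hr hs (Ne.symm hsr) hx hy hxv
      (hcent y (comm_of_OO hp hs (Ne.symm hsp) he hy hev (C.cent_le hty.symm)).symm)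

/-- Centralizers of elements inverted by `t` and fixed by `v`. -/
theorem close_fixed (hm : Multi H) {p : ℕ} (hpm : Moved t H p) {e : G} (he : e ∈ OO p H) (hep : orderOf e = p)
    (hte : t * e * t⁻¹ = e⁻¹) (hve : v * e = e * v) {z : G} (hz : z ∈ OO p H) (hzp : orderOf z = p)
    (hzc : ∀ x ∈ OO p H, z * x = x * z) (htz : t ∈ IC z) (hvz : v ∈ IC z)
    (hev' : t * z = z * t → v * z = z * v → e ∈ Hc t H (t * v)) : ∀ x : G, x * e = e * x → x ∈ H := by
  have hp := hpm.1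
  have heo : Odd (orderOf e) := C.odd_order_of_mem hp he
  have hem : t * e ≠ e * t := fun h => by
    rw [conj_eq_self h] at hte
    have h1 := eq_one_of_sq C.bad.odd (OO_le_FF hp H he) (eq_inv_iff_mul_eq_one.1 hte)
    rw [h1, orderOf_one] at hep
    exact hp.ne_one hep.symm
  have htI : t ∈ IC e := Or.inr hte
  have hvI : v ∈ IC e := IC_cent hve
  have hext : BG.Ctx.Extra t v H e := by
    intro Y hY r hr hrH
    by_contra hne
    have hr2 : r ≠ 2 := fun h => hne (h ▸ hY.two)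
    have hRo := OO_odd hr hr2 Y
    have hRH := C.mid_disjoint hp he hep hY hr hrH
    have hinv := all_inverted hRo C.bad.invol (mem_normalizer_OO hY.left) fun x hx htx => by
      have : x ∈ OO r Y ⊓ H := ⟨hx, C.cent_le htx.symm⟩
      rwa [hRH, Subgroup.mem_bot] at this
    have hRe := comm_of_double_inverted (mem_normalizer_OO (hY.cent e rfl)) hinv hte heo
    have hev : e ∈ Hc t H v := C.mem_Hc C.invol hve.symm
    have hv := all_inverted hRo C.invol (mem_normalizer_OO hY.right) fun x hx hvx =>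
      C.extra_core hp he hep hev hte hY.cent hr hr2 hrH hinv hRe x hx (C.mem_Hc C.invol hvx.symm)
    have htv : ∀ x ∈ OO r Y, x ∈ Hc t H (t * v) := fun x hx => C.mem_Hc C.tv_invol (BG.comm_of_conj_eq (by
      rw [show t * v * x * (t * v)⁻¹ = t * (v * x * v⁻¹) * t⁻¹ by group, hv x hx, hinv _ (inv_mem hx), inv_inv])).symm
    refine hne (eq_bot_iff.2 fun x hx => Subgroup.mem_bot.2 ?_)
    by_cases hVz : t * z = z * t ∧ v * z = z * v
    · exact C.symm.extra_core hp he hep (hev' hVz.1 hVz.2) hte hY.cent hr hr2 hrH hinv hRe x hx (htv x hx)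
    -- `z` centralizes `R`
    have hzY : z ∈ Y := hY.cent z (hzc e he)
    have hzo := C.odd_order_of_mem hp hz
    have hzx : z * x = x * z := by
      rcases htz with h | h
      · rcases hvz with h' | h'
        · exact absurd ⟨BG.comm_of_conj_eq h, BG.comm_of_conj_eq h'⟩ hVz
        · exact comm_of_double_inverted (mem_normalizer_OO hzY) hv h' hzo x hx
      · exact comm_of_double_inverted (mem_normalizer_OO hzY) hinv h hzo x hx
    have : x ∈ OO r Y ⊓ H := ⟨hx, C.close_central hm hpm hz hzp hzc htz hvz x hzx.symm⟩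
    rwa [hRH, Subgroup.mem_bot] at this
  obtain ⟨q, hq, hqp, hqH, hside⟩ := C.exists_other hm hpm
  intro x hx
  exact C.close hm hp he hep hext ⟨_, C.base hm hpm he hep htI hvI (Or.inl hte)⟩ ⟨p, hp, e, he, rfl, hem⟩
    (Or.inl hte) hq hqp hqH hside hx

theorem exists_side (hm : Multi H) {p : ℕ} (hpm : Moved t H p)
    (hmv : ∃ y ∈ OO p H, v * y = y * v ∧ t * y ≠ y * t) : ∃ e, BG.Ctx.Side t v H p e := by
  have hp := hpm.1
  haveI := Fact.mk hp
  obtain ⟨Z, hZne, hZO, hZab, hZn, hZc⟩ := center_OO H hp (OO_ne_bot_dvd hp (C.moved_ne_bot hpm))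
  have hZodd : Odd (Nat.card Z) := C.bad.odd.of_dvd_nat (Subgroup.card_dvd_of_le (hZO.trans (OO_le_FF hp H)))
  obtain ⟨z, hzZ, hzo, htz, hvz⟩ := exists_eigen hZodd hZab hZne C.bad.invol C.invol C.comm
    (Subgroup.mem_normalizer_fintype fun y hy => hZn t C.bad.mem y hy)
    (Subgroup.mem_normalizer_fintype fun y hy => hZn v C.v_mem y hy)
  have hzp : orderOf z = p := C.prime_order hp (hZO hzZ) hzo
  have hzc : ∀ x ∈ OO p H, z * x = x * z := fun x hx => hZc z hzZ x (OO_le_GG hp H hx)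
  have hzH := C.close_central hm hpm (hZO hzZ) hzp hzc htz hvz
  set U := OO p H ⊓ Subgroup.centralizer ({v} : Set G) with hU
  have hUodd : Odd (Nat.card U) :=
    C.bad.odd.of_dvd_nat (Subgroup.card_dvd_of_le (inf_le_left.trans (OO_le_FF hp H)))
  have hnorm : ∀ {c : G}, c ∈ H → c * v = v * c → c ∈ Subgroup.normalizer (U : Set G) := fun {c} hc hcv =>
    Subgroup.mem_normalizer_fintype fun y hy => ⟨conj_OO hc hy.1, mem_cent.2
      (((show Commute c v from hcv).mul_left (mem_cent.1 hy.2)).mul_left (show Commute c v from hcv).inv_left).eq⟩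
  have htU := hnorm C.bad.mem C.comm
  obtain ⟨y, hy, hvy, hym⟩ := hmv
  have hyU : y ∈ U := ⟨hy, mem_cent.2 hvy.symm⟩
  by_cases hVz : t * z = z * t ∧ v * z = z * v
  · obtain ⟨htz', hvz'⟩ := hVz
    obtain ⟨g, hgt, hgv, hgtv⟩ := C.hyp.three C.bad.invol C.invol C.comm C.ne
    -- `z'' = g⁻¹ z g`
    have hg' : g⁻¹ * t * g⁻¹⁻¹ = t * v := conj_back hgtv
    set z' := g⁻¹ * z * g⁻¹⁻¹ with hz'
    have htz2 : Commute t z' := by
      have h : Commute (g⁻¹ * v * g⁻¹⁻¹) z' := (Commute.conj_iff g⁻¹).2 hvz'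
      rwa [conj_back hgt] at h
    have hvz2 : Commute v z' := by
      have h : Commute (g⁻¹ * (t * v) * g⁻¹⁻¹) z' :=
        (Commute.conj_iff g⁻¹).2 ((show Commute t z from htz').mul_left hvz')
      rwa [conj_back hgv] at h
    have hz'o : orderOf z' = p := (orderOf_conj _ z).trans hzp
    have hz'H : z' ∈ H := C.cent_le htz2.symm.eq
    obtain ⟨a, haU, haz, ham⟩ : ∃ a ∈ U, a * z' = z' * a ∧ t * a ≠ a * t := by
      by_contra hno
      push Not at hno
      refine hym (centralizes_of_fixed (A := Subgroup.zpowers z') (IsPGroup.of_card (n := 1) (by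
        rw [Nat.card_zpowers, hz'o, pow_one])) ((OO_isPGroup p H).to_le inf_le_left)
        (Subgroup.zpowers_le.2 (hnorm hz'H hvz2.symm.eq)) htU
        (by rw [C.bad.invol]; exact (Nat.coprime_primes Nat.prime_two hp).2 (Ne.symm (C.ne_two (C.moved_ne_bot hpm))))
        (fun a ha => ?_) (fun w hw hwz => hno w hw (hwz z' (Subgroup.mem_zpowers z')).symm) y hyU)
      obtain ⟨i, rfl⟩ := Subgroup.mem_zpowers_iff.1 ha
      exact ((htz2.symm).zpow_left i).eq
    obtain ⟨e, hePz, heo, hte⟩ := exists_inverted (P := U ⊓ Subgroup.centralizer ({z'} : Set G))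
      (hUodd.of_dvd_nat (Subgroup.card_dvd_of_le inf_le_left)) C.bad.invol
      (Subgroup.mem_normalizer_fintype fun w hw => ⟨mem_normalizer_of_mem htU hw.1, mem_cent.2
        ((htz2.mul_left (mem_cent.1 hw.2)).mul_left htz2.inv_left).eq⟩)
      (show a ∈ U ⊓ Subgroup.centralizer ({z'} : Set G) from ⟨haU, mem_cent.2 haz⟩) ham
    have hep := C.prime_order hp hePz.1.1 heo
    have hve : v * e = e * v := (mem_cent.1 hePz.1.2).symm
    refine ⟨e, hePz.1.1, C.mem_Hc C.invol hve.symm, hep, hte, C.close_fixed hm hpm hePz.1.1 hep hte hve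
      (hZO hzZ) hzp hzc htz hvz fun _ _ => ?_⟩
    rw [Hc_eq C.bad.cent hg', mem_cj]
    refine hzH _ ?_
    have h := (show Commute e z' from mem_cent.1 hePz.2)
    calc g⁻¹⁻¹ * e * g⁻¹ * z = g⁻¹⁻¹ * (e * z') * g⁻¹ := by rw [hz']; group
      _ = g⁻¹⁻¹ * (z' * e) * g⁻¹ := by rw [h.eq]
      _ = z * (g⁻¹⁻¹ * e * g⁻¹) := by rw [hz']; group
  · obtain ⟨e, heU, heo, hte⟩ := exists_inverted hUodd C.bad.invol htU hyU hym
    have hep := C.prime_order hp heU.1 heo
    have hve : v * e = e * v := (mem_cent.1 heU.2).symm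
    exact ⟨e, heU.1, C.mem_Hc C.invol hve.symm, hep, hte, C.close_fixed hm hpm heU.1 hep hte hve
      (hZO hzZ) hzp hzc htz hvz fun h h' => absurd ⟨h, h'⟩ hVz⟩

/-- The other side, if it has nothing moved. -/
theorem side_symm {p : ℕ} (hp : p.Prime) {e : G} (hs : BG.Ctx.Side t v H p e)
    (hfix : ∀ y ∈ OO p H, (t * v) * y = y * (t * v) → t * y = y * t) : BG.Ctx.Side t (t * v) H p e := by
  have hodd : Odd (Nat.card (OO p H)) := C.bad.odd.of_dvd_nat (Subgroup.card_dvd_of_le (OO_le_FF hp _))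
  have hinvl : ∀ {f : G}, f ∈ OO p H → t * f * t⁻¹ = f⁻¹ → v * f = f * v := fun {f} hf h => by
    have := inverted_of_centralizer_le hodd C.bad.invol C.tv_invol C.comm_tv (mem_normalizer_OO C.bad.mem)
      (mem_normalizer_OO (mul_mem C.bad.mem C.v_mem)) hfix hf h
    rwa [C.tv_tv] at this
  have hve := hinvl hs.mem hs.inv
  have hwe : t * v * e * (t * v)⁻¹ = e⁻¹ := by
    rw [show t * v * e * (t * v)⁻¹ = t * (v * e * v⁻¹) * t⁻¹ by group, conj_eq_self hve, hs.inv]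
  obtain ⟨g, hgt, hgv, hgtv⟩ := C.hyp.three C.bad.invol C.invol C.comm C.ne
  have hg' : g⁻¹ * t * g⁻¹⁻¹ = t * v := conj_back hgtv
  set e' := g⁻¹ * e * g⁻¹⁻¹ with he'
  have hte' : Commute t e' := by
    have h : Commute (g⁻¹ * v * g⁻¹⁻¹) e' := (Commute.conj_iff g⁻¹).2 hve
    rwa [conj_back hgt] at h
  have hve' : v * e' * v⁻¹ = e'⁻¹ := by
    calc v * e' * v⁻¹ = (g⁻¹ * (t * v) * g⁻¹⁻¹) * e' * (g⁻¹ * (t * v) * g⁻¹⁻¹)⁻¹ := by
          rw [conj_back hgv]
      _ = g⁻¹ * (t * v * e * (t * v)⁻¹) * g⁻¹⁻¹ := by rw [he']; group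
      _ = e'⁻¹ := by rw [hwe, he']; group
  have he'H : e' ∈ H := C.cent_le hte'.symm.eq
  have hm : e' * e * e'⁻¹ ∈ OO p H := conj_OO he'H hs.mem
  have h1 : v * (e' * e * e'⁻¹) = e' * e * e'⁻¹ * v := hinvl hm (by
    rw [show t * (e' * e * e'⁻¹) * t⁻¹ = (t * e' * t⁻¹) * (t * e * t⁻¹) * (t * e' * t⁻¹)⁻¹ by group,
      conj_eq_self hte'.eq, hs.inv]
    group)
  have h2 : e' * e * e'⁻¹ = e'⁻¹ * e * e' := by
    rw [← conj_eq_self h1, show v * (e' * e * e'⁻¹) * v⁻¹ = (v * e' * v⁻¹) * (v * e * v⁻¹) * (v * e' * v⁻¹)⁻¹ by group,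
      hve', conj_eq_self hve, inv_inv]
  have h3 : (e' * e') * e = e * (e' * e') := by
    calc e' * e' * e = e' * (e' * e * e'⁻¹) * e' := by group
      _ = e' * (e'⁻¹ * e * e') * e' := by rw [h2]
      _ = e * (e' * e') := by group
  have he'o : Odd (orderOf e') := by rw [he', orderOf_conj]; exact C.odd_order_of_mem hp hs.mem
  have h4 : e' * e = e * e' := mem_cent.1 (mem_of_sq_mem (P := Subgroup.zpowers e')
    (Q := Subgroup.centralizer ({e} : Set G)) (by rwa [Nat.card_zpowers]) (Subgroup.mem_zpowers e') (mem_cent.2 h3))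
  refine ⟨hs.mem, ?_, hs.order, hs.inv, hs.cent⟩
  rw [Hc_eq C.bad.cent hg', mem_cj]
  refine hs.cent _ ?_
  calc g⁻¹⁻¹ * e * g⁻¹ * e = g⁻¹⁻¹ * (e * e') * g⁻¹ := by rw [he']; group
    _ = g⁻¹⁻¹ * (e' * e) * g⁻¹ := by rw [h4]
    _ = e * (g⁻¹⁻¹ * e * g⁻¹) := by rw [he']; group

theorem both_sides (hm : Multi H) {p : ℕ} (hpm : Moved t H p) :
    (∃ e, BG.Ctx.Side t v H p e) ∧ ∃ e, BG.Ctx.Side t (t * v) H p e := by
  have hp := hpm.1
  have hodd : Odd (Nat.card (OO p H)) := C.bad.odd.of_dvd_nat (Subgroup.card_dvd_of_le (OO_le_FF hp _))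
  by_cases h1 : ∀ y ∈ OO p H, v * y = y * v → t * y = y * t
  · by_cases h2 : ∀ y ∈ OO p H, (t * v) * y = y * (t * v) → t * y = y * t
    · obtain ⟨-, x, hx, hmv⟩ := hpm
      obtain ⟨a, ha, hap, hinv⟩ := exists_inverted hodd C.bad.invol (mem_normalizer_OO C.bad.mem) hx hmv
      have h3 := inverted_of_centralizer_le hodd C.bad.invol C.invol C.comm (mem_normalizer_OO C.bad.mem)
        (mem_normalizer_OO C.v_mem) h1 ha hinv
      rw [conj_eq_self (h2 a ha h3)] at hinv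
      exact (hap.ne_one (orderOf_eq_one_iff.2 (eq_one_of_sq hodd ha (eq_inv_iff_mul_eq_one.1 hinv)))).elim
    · push Not at h2
      obtain ⟨e, he⟩ := C.symm.exists_side hm hpm h2
      have := C.symm.side_symm hp he (by rw [C.tv_tv]; exact h1)
      rw [C.tv_tv] at this
      exact ⟨⟨e, this⟩, ⟨e, he⟩⟩
  · push Not at h1
    obtain ⟨e, he⟩ := C.exists_side hm hpm h1
    refine ⟨⟨e, he⟩, ?_⟩
    by_cases h2 : ∀ y ∈ OO p H, (t * v) * y = y * (t * v) → t * y = y * t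
    · exact ⟨e, C.side_symm hp he h2⟩
    · push Not at h2
      exact C.symm.exists_side hm hpm h2

theorem other_primes {p : ℕ} (hp : p.Prime) {e : G} (hs : BG.Ctx.Side t v H p e) {q : ℕ} (hq : q.Prime) (hqp : q ≠ p) :
    OO q (Hc t H v) ≤ H := fun y hy =>
  hs.cent y (C.inverted_cent C.invol C.comm hp hq hqp hs.mem hs.memHc hs.inv y hy).symm

theorem le_other {g w : G} (hg : g * t * g⁻¹ = w) {r : ℕ} (hle : OO r (Hc t H w) ≤ H) :
    OO r H ≤ Hc t H (g⁻¹ * t * g) := fun x hx => by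
  rw [Hc_eq C.bad.cent (g := g⁻¹) (by group), mem_cj, inv_inv]
  exact hle (by rw [Hc_eq C.bad.cent hg, OO_cj]; exact conj_mem_cj hx)

/-- The whole Fitting subgroup of `H_v` lies in `H`. -/
theorem FF_Hc_le (hm : Multi H) {p : ℕ} (hpm : Moved t H p) {e e' : G} (hs : BG.Ctx.Side t v H p e)
    (hs' : BG.Ctx.Side t (t * v) H p e') {r : ℕ} (hr : r.Prime) : OO r (Hc t H v) ≤ H := by
  have hp := hpm.1
  haveI := Fact.mk hp
  by_cases hrp : r = p
  swap
  · exact C.other_primes hp hs hr hrp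
  subst hrp
  obtain ⟨q, hq, hqp, hne⟩ := hm r
  obtain ⟨g, hgt, hgv, hgtv⟩ := C.hyp.three C.bad.invol C.invol C.comm C.ne
  have hFq : OO q H ≤ Hc t H v := by
    have h := C.le_other (g := g⁻¹) (w := t * v) (conj_back hgtv)
      (C.symm.other_primes hp hs' hq hqp)
    rwa [inv_inv, hgt] at h
  intro c hc
  refine C.cent_OO_le hne fun y hy => (Eq.symm ?_)
  obtain ⟨k, hk⟩ := OO_pow_order hq hy
  refine centralizes_of_fixed (A := Subgroup.zpowers e) (IsPGroup.of_card (n := 1) (by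
    rw [Nat.card_zpowers, hs.order, pow_one])) (OO_isPGroup r (Hc t H v))
    (Subgroup.zpowers_le.2 (mem_normalizer_OO hs.memHc)) (mem_normalizer_OO (hFq hy))
    (hk ▸ Nat.Coprime.pow_left k ((Nat.coprime_primes hq hp).2 hqp)) (fun a ha => ?_) ?_ c hc
  · obtain ⟨i, rfl⟩ := Subgroup.mem_zpowers_iff.1 ha
    exact ((show Commute e y from OO_comm hp hq (Ne.symm hqp) hs.mem hy).zpow_left i).eq
  · intro w hw hwe
    exact comm_of_OO hq hp hqp hy hw (hFq hy) (hs.cent w (hwe e (Subgroup.mem_zpowers e)).symm)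

/-- **The case of at least two primes is impossible.** -/
theorem multi_false (hm : Multi H) : False := by
  haveI := C.hyp.simple
  obtain ⟨p, hp, x, hx, hmv⟩ := C.bad.exists_moved
  have hpm : Moved t H p := ⟨hp, x, hx, hmv⟩
  obtain ⟨⟨e, he⟩, e', he'⟩ := C.both_sides hm hpm
  obtain ⟨g, hgt, hgv, hgtv⟩ := C.hyp.three C.bad.invol C.invol C.comm C.ne
  have h1 : FF (Hc t H v) ≤ H := FF_le_of_primes fun r hr _ => C.FF_Hc_le hm hpm he he' hr
  have h2 : FF H ≤ Hc t H v := FF_le_of_primes fun r hr _ => by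
    have he1 : BG.Ctx.Side t (t * (t * v)) H p e := by rw [C.tv_tv]; exact he
    have h := C.le_other (g := g⁻¹) (w := t * v) (conj_back hgtv)
      (C.symm.FF_Hc_le hm hpm he' he1 hr)
    rwa [inv_inv, hgt] at h
  have hB := C.bad_Hc C.invol
  rcases uniqueness_symm C.hyp.noncomm H (Hc t H v) C.bad.coatom hB.coatom
      ⟨FF H, C.FF_ne_bot, le_rfl, fun y hy => h2 (C.GG_H.le hy.1)⟩
      ⟨FF (Hc t H v), fun e => hB.moved (e ▸ bot_le), le_rfl, fun y hy => h1 ((GG_eq_FF hB.layer).le hy.1)⟩ with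
    e | ⟨s, hs, h, -⟩
  · exact C.Hc_ne e.symm
  · exact C.not_pgroup hm hs h

end MCtx

/-- **`|π(F(M))| ≥ 2` is impossible.** -/
theorem multi_false (h : Hyp G) {z : G}
    (hiso : ∀ N : Subgroup G, N ≠ ⊤ → Subgroup.centralizer ({z} : Set G) ≤ N → ∀ g ∈ N,
      Commute (g * z * g⁻¹) z → g * z * g⁻¹ = z)
    {M : Subgroup G} (hB : CfsgLib.BG.Bad z M) (hm : CfsgLib.BG.Multi M) : False := by
  obtain ⟨v, hv, hc, hne⟩ := h.exists_other hB.invol
  exact (⟨h, hiso, hB, hv, hc, hne⟩ : MCtx z v M).multi_false hm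

/-- A maximal subgroup over the centraliser with a moved odd subgroup is `Bad`. -/
theorem bad_of_iso (h : Hyp G) {z : G} (hz : orderOf z = 2)
    (hiso : ∀ N : Subgroup G, N ≠ ⊤ → Subgroup.centralizer ({z} : Set G) ≤ N → ∀ g ∈ N,
      Commute (g * z * g⁻¹) z → g * z * g⁻¹ = z)
    {M : Subgroup G} (hM : IsCoatom M) (hC : Subgroup.centralizer ({z} : Set G) ≤ M) {R : Subgroup G}
    (hR : Odd (Nat.card R)) (hnorm : Subgroup.centralizer ({z} : Set G) ≤ Subgroup.normalizer (R : Set G))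
    (hRM : R ≤ M) (hmv : ¬ R ≤ Subgroup.centralizer ({z} : Set G)) : CfsgLib.BG.Bad z M :=
  bad_of_moved' h hz hiso hM hC hR hnorm hRM hmv

end CfsgLib.RankTwoModel
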