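import Cfsg.Agent.Lib.RankTwoModel.RadSection
import Cfsg.Agent.Lib.BG.Multi

/-!
A central involution isolated in every proper subgroup over its centraliser: the configuration of the case of two
primes.

* `Iso z`: the isolation.
* `not_mem_two'`, `bad_of_moved'`: a maximal subgroup over the centraliser with a moved odd subgroup is `Bad`.
* `Comp.rad_of_moved`: a moved element of an invariant `p`-group yields a moved radical in the component.
-/

set_option autoImplicit false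
set_option linter.unusedSectionVars false
set_option linter.style.haveILetI false

namespace CfsgLib.RankTwoModel

open Cfsg CfsgLib.BG CfsgLib.GW CfsgLib.DihedralFusion CfsgLib.BenderMax

universe u

variable {G : Type u} [Group G] [Finite G]

/-- `z` is isolated in the proper subgroups over its centraliser. -/
def Iso (z : G) : Prop :=
  ∀ N : Subgroup G, N ≠ ⊤ → Subgroup.centralizer ({z} : Set G) ≤ N → ∀ g ∈ N,
    Commute (g * z * g⁻¹) z → g * z * g⁻¹ = z

theorem Iso.cj {z : G} (hz : Iso z) (a : G) : Iso (a * z * a⁻¹) := by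
  intro N hN hC g hg hc
  have e : g * (a * z * a⁻¹) * g⁻¹ = a * ((a⁻¹ * g * a) * z * (a⁻¹ * g * a)⁻¹) * a⁻¹ := by group
  have hN' : BG.cj a⁻¹ N ≠ ⊤ := fun h => hN (by
    rw [← cj_one N, ← mul_inv_cancel a, ← cj_cj, h]
    ext x; simp [mem_cj])
  have hC' : Subgroup.centralizer ({z} : Set G) ≤ BG.cj a⁻¹ N := fun x hx => by
    rw [mem_cj, inv_inv]
    refine hC ?_
    rw [centralizer_cj]
    exact conj_mem_cj hx
  rw [e, hz _ hN' hC' (a⁻¹ * g * a) (by rw [mem_cj]; simpa [mul_assoc] using hg)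
    ((Commute.conj_iff a).1 (by rw [← e]; exact hc))]

/-- An involution of `O₂(Y)` centralizes an odd normalized subgroup inside `Y`. -/
theorem not_mem_two' {Y : Subgroup G} {w : G} (hwO : w ∈ OO 2 Y)
    {R₀ : Subgroup G} (hR : Odd (Nat.card R₀)) (hnorm : w ∈ Subgroup.normalizer (R₀ : Set G)) {f : G}
    (hf : f ∈ R₀) (hfY : f ∈ Y) : w * f = f * w := by
  set c := f * w * f⁻¹ * w⁻¹ with hc
  have hc2 : c ∈ OO 2 Y := mul_mem (conj_OO hfY hwO) (inv_mem hwO)
  have hcR : c ∈ R₀ := by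
    rw [hc, show f * w * f⁻¹ * w⁻¹ = f * (w * f⁻¹ * w⁻¹) by group]
    exact R₀.mul_mem hf (mem_normalizer_of_mem hnorm (R₀.inv_mem hf))
  haveI : Fact (Nat.Prime 2) := ⟨Nat.prime_two⟩
  obtain ⟨k, hk⟩ := (OO_isPGroup 2 Y).exists_card_eq
  have hc1 : c = 1 := orderOf_eq_one_iff.1 (Nat.eq_one_of_dvd_coprimes
    (Nat.Coprime.pow_left k (Nat.coprime_two_left.2 hR)) (hk ▸ Subgroup.orderOf_dvd_natCard _ hc2)
    (Subgroup.orderOf_dvd_natCard _ hcR))
  rw [hc, mul_inv_eq_one, mul_inv_eq_iff_eq_mul] at hc1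
  exact hc1.symm

/-- A normal subgroup containing an involution of a four group through `t` contains `t`, if swapped over `t`. -/
theorem Hyp.mem_of_meets (h : Hyp G) {t v : G} (ht : orderOf t = 2) (hv : orderOf v = 2) (hc : t * v = v * t)
    (hne : v ≠ t) {N E : Subgroup G} (hC : Subgroup.centralizer ({t} : Set G) ≤ N) (hEN : E ≤ N)
    (hn : ∀ y ∈ N, ∀ x ∈ E, y * x * y⁻¹ ∈ E) (heven : ¬ Odd (Nat.card E)) : t ∈ E := by
  obtain ⟨s, hs, hsv⟩ := h.swap ht hv hc hne
  have hst : s * t * s⁻¹ = t := conj_eq_self (mem_cent.1 hs)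
  rcases h.meets_normal ht hv hc hne (hC (mem_cent_self t)) (hC (mem_cent.2 hc.symm)) hEN hn heven with e | e | e
  · exact e
  · have := mul_mem (hsv ▸ hn s (hC hs) v e) e
    rwa [mul_assoc, invol_mul_self hv, mul_one] at this
  · have e2 := hn s (hC hs) _ e
    rw [show s * (t * v) * s⁻¹ = s * t * s⁻¹ * (s * v * s⁻¹) by group, hst, hsv, ← mul_assoc,
      invol_mul_self ht, one_mul] at e2
    have := mul_mem e e2
    rwa [mul_assoc, invol_mul_self hv, mul_one] at this

/-- A commuting involution other than the given one. -/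
theorem Hyp.exists_other (h : Hyp G) {t : G} (ht : orderOf t = 2) :
    ∃ v, orderOf v = 2 ∧ t * v = v * t ∧ v ≠ t := by
  obtain ⟨d, hd⟩ := h.exists_frame
  obtain ⟨g, hg⟩ := h.exists_conj d.z t hd.zord ht
  haveI := hd.klein
  obtain ⟨a, ha, hne⟩ : ∃ a : d.U, a ≠ 1 ∧ a ≠ ⟨d.z, hd.zU⟩ := by
    by_contra hno
    push Not at hno
    have h4 : Nat.card d.U = 4 := IsKleinFour.card_four
    have : Nat.card d.U ≤ 2 := by
      haveI := Fintype.ofFinite d.U
      classical
      rw [Nat.card_eq_fintype_card, ← Finset.card_univ]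
      refine le_trans (Finset.card_le_card (t := {1, ⟨d.z, hd.zU⟩}) fun x _ => ?_) Finset.card_le_two
      by_cases hx : x = 1
      · simp [hx]
      · simp [hno x hx]
    omega
  have hU2 : ∀ x : d.U, x * x = 1 := IsKleinFour.mul_self
  refine ⟨g * (a : G) * g⁻¹, ?_, ?_, fun e => hne (Subtype.ext ?_)⟩
  · rw [orderOf_cj, Subgroup.orderOf_coe]
    exact orderOf_eq_prime (hp := ⟨Nat.prime_two⟩) (by rw [sq, hU2]) ha
  · rw [← hg]
    exact ((Commute.conj_iff g).2 (congrArg Subtype.val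
      (IsKleinFour.isMulCommutative (G := d.U) |>.is_comm.comm ⟨d.z, hd.zU⟩ a) : Commute d.z (a : G))).eq
  · rw [← hg] at e
    exact mul_left_cancel (mul_right_cancel e)

/-- **A maximal subgroup over the centraliser with a moved odd subgroup is `Bad`.** -/
theorem bad_of_moved' (h : Hyp G) {t : G} (ht : orderOf t = 2) (hiso : Iso t) {N : Subgroup G} (hN : IsCoatom N)
    (hC : Subgroup.centralizer ({t} : Set G) ≤ N) {R : Subgroup G} (hR : Odd (Nat.card R))
    (hnorm : Subgroup.centralizer ({t} : Set G) ≤ Subgroup.normalizer (R : Set G)) (hRN : R ≤ N)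
    (hmv : ¬ R ≤ Subgroup.centralizer ({t} : Set G)) : Bad t N := by
  obtain ⟨v, hv, hc, hne⟩ := h.exists_other ht
  refine ⟨ht, hN, hC, ?_, ?_⟩
  · by_contra hE
    haveI := EE_isPerfect N
    have htE := h.mem_of_meets ht hv hc hne hC EE_le (fun y hy x hx => conj_EE hy hx) (not_odd_of_perfect hE)
    have hcent := comm_of_isolated (EE_core_le N) ht htE fun g hg => hiso N hN.1 hC g (EE_le hg)
    refine hmv fun r hr => mem_cent.2 ?_
    have e := hiso N hN.1 hC r (hRN hr) (hcent _ (conj_EE (hRN hr) htE))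
    exact (mul_inv_eq_iff_eq_mul.1 e)
  · by_contra hO
    have htO := h.mem_of_meets ht hv hc hne hC OO_le (fun y hy x hx => conj_OO hy hx)
      (two_group_even (OO_isPGroup 2 N) hO)
    exact hmv fun r hr => mem_cent.2 (not_mem_two' htO hR (hnorm (mem_cent_self t)) hr (hRN hr)).symm

/-- A moved element of an invariant `p`-group yields a moved radical in the component. -/
theorem Comp.rad_of_moved {Y L : Subgroup G} (hL : Comp Y L) {w : G} (hwL : w ∈ L) (hw : orderOf w = 2) {p : ℕ}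
    (hp : p.Prime) (hp2 : p ≠ 2) {R₀ : Subgroup G} (hpg : IsPGroup p R₀)
    (hn : ∀ c : G, c * w = w * c → ∀ r ∈ R₀, c * r * c⁻¹ ∈ R₀) {f : G} (hf : f ∈ R₀) (hfY : f ∈ Y)
    (hmv : w * f ≠ f * w) : Rad L p w (L ⊓ R₀) := by
  haveI := Fact.mk hp
  refine ⟨hp, hp2, hwL, hw, inf_le_left, hpg.to_le inf_le_right,
    fun c hc hcw r hr => ⟨L.mul_mem (L.mul_mem hc hr.1) (L.inv_mem hc), hn c hcw r hr.2⟩,
    f * w * f⁻¹ * w⁻¹, ⟨?_, ?_⟩, fun hcw => hmv ?_⟩
  · exact L.mul_mem (hL.norm f hfY w hwL) (L.inv_mem hwL)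
  · rw [show f * w * f⁻¹ * w⁻¹ = f * (w * f⁻¹ * w⁻¹) by group]
    exact R₀.mul_mem hf (hn w rfl _ (R₀.inv_mem hf))
  set c := f * w * f⁻¹ * w⁻¹ with hc
  have hcR : c ∈ R₀ := by
    rw [hc, show f * w * f⁻¹ * w⁻¹ = f * (w * f⁻¹ * w⁻¹) by group]
    exact R₀.mul_mem hf (hn w rfl _ (R₀.inv_mem hf))
  have hodd : Odd (Nat.card R₀) := by
    obtain ⟨k, hk⟩ := hpg.exists_card_eq
    rw [hk]; exact (hp.odd_of_ne_two hp2).pow
  have hww := invol_mul_self hw
  have hcc : c * c = 1 := by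
    have h1 : (c * w) * (c * w) = 1 := by
      rw [hc, show f * w * f⁻¹ * w⁻¹ * w * (f * w * f⁻¹ * w⁻¹ * w) = f * (w * w) * f⁻¹ by group, hww]
      group
    rwa [mul_assoc, ← mul_assoc w, ← hcw, mul_assoc c, hww, mul_one] at h1
  have hc1 := CfsgLib.BG.eq_one_of_sq hodd hcR hcc
  rw [hc, mul_inv_eq_one, mul_inv_eq_iff_eq_mul] at hc1
  exact hc1.symm

/-- The component cannot lie in a subgroup without layer in which it is normal. -/
theorem Comp.not_le_of_layer {Y L Z : Subgroup G} (hL : Comp Y L) (hZ : EE Z = ⊥) (hLZ : L ≤ Z) (hZY : Z ≤ Y) :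
    False := by
  haveI : (L.subgroupOf Z).Normal := ⟨fun x hx g => hL.norm g (hZY g.2) x hx⟩
  have hc : IsComponent (L.subgroupOf Z) :=
    ⟨Subgroup.Normal.isSubnormal inferInstance, isQuasisimple_of_equiv (Subgroup.subgroupOfEquivOfLe hLZ).symm hL.quasi⟩
  refine hL.ne (eq_bot_iff.2 fun x hx => ?_)
  have : x ∈ EE Z := ⟨⟨x, hLZ hx⟩, CfsgLib.le_layer hc hx, rfl⟩
  rwa [hZ] at this

end CfsgLib.RankTwoModel
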